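import Mathlib
import Cfsg.Agent.Lib.FpfHeight.Basic
import Cfsg.Agent.Lib.FpfHeight.Generation
import Cfsg.Agent.Lib.Coprime.Commutator

/-!
# Operator lemmas for coprime action

* `op_eq` : if `t` fixes every `s`-invariant sum and no element of `Q` but `1` is fixed by any
  `s ^ i` (`0 < i < n`) or `t * s ^ i`, then `|Q| (x - 1) = 0` on the module.
* `centralizes_of_fixed` : if `N` centralises `C_V(d)`, where `d` has prime order and fixes no
  non-trivial element of `N`, then `N` centralises the nilpotent group `V` of coprime order.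
-/

set_option autoImplicit false
set_option linter.style.haveILetI false

namespace Cfsg.Agent.Lib.LAEven57.AbelianCent

open Subgroup

section Operators

variable {S : Type*} [Ring S] {E : Type*} [Group E]

/-- Two sums twisted by fixed-point-free maps: the core identity. -/
theorem op_eq (φ : E →* S) (Q : Subgroup E) [Finite Q] (s t : E) {n : ℕ} (hn : 0 < n)
    (hnorm : ∀ x ∈ Q, s * x * s⁻¹ ∈ Q) (htnorm : ∀ x ∈ Q, t * x * t⁻¹ ∈ Q)
    (hfpf : ∀ i, 0 < i → i < n → ∀ x ∈ Q, s ^ i * x * (s ^ i)⁻¹ = x → x = 1)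
    (hfpf' : ∀ i, i < n → ∀ x ∈ Q, t * s ^ i * x * (t * s ^ i)⁻¹ = x → x = 1)
    (hT : φ t * ∑ i ∈ Finset.range n, φ (s ^ i) = ∑ i ∈ Finset.range n, φ (s ^ i)) :
    ∀ x ∈ Q, (Nat.card Q : S) * (φ x - 1) = 0 := by
  classical
  have : Fintype Q := Fintype.ofFinite Q
  intro x₀ hx₀
  have hnormi : ∀ (i : ℕ) (x : E), x ∈ Q → s ^ i * x * (s ^ i)⁻¹ ∈ Q := by
    intro i
    induction i with
    | zero => intro x hx; simpa using hx
    | succ i ih =>
      intro x hx
      simpa [pow_succ', mul_assoc] using hnorm _ (ih x hx)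
  set P : S := ∑ x : Q, φ x with hP
  -- twisting by a map without fixed points permutes `Q`
  have hbij : ∀ u : E, (∀ x ∈ Q, u * x * u⁻¹ ∈ Q) → (∀ x ∈ Q, u * x * u⁻¹ = x → x = 1) →
      ∑ x : Q, φ ((x : E) * (u * (x : E)⁻¹ * u⁻¹)) = P := by
    intro u hu huf
    let g : Q → Q := fun x =>
      ⟨(x : E) * (u * (x : E)⁻¹ * u⁻¹), Q.mul_mem x.2 (hu _ (Q.inv_mem x.2))⟩
    have hg : Function.Injective g := by
      intro x y hxy
      have e : (x : E) * (u * (x : E)⁻¹ * u⁻¹) = (y : E) * (u * (y : E)⁻¹ * u⁻¹) :=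
        congrArg Subtype.val hxy
      have h1 : (y : E)⁻¹ * x = 1 := by
        refine huf _ (Q.mul_mem (Q.inv_mem y.2) x.2) ?_
        have e2 : (y : E)⁻¹ * x =
            (y : E)⁻¹ * ((x : E) * (u * (x : E)⁻¹ * u⁻¹)) * (u * x * u⁻¹) := by
          group
        conv_rhs => rw [e2, e]
        group
      exact Subtype.ext (inv_mul_eq_one.mp h1).symm
    exact Fintype.sum_bijective g hg.bijective_of_finite _ _ fun x => rfl
  -- the relation, conjugated by `x` in `Q`
  have hconj : ∀ (x : E) (u : E),
      φ x * φ u * φ x⁻¹ = φ (x * (u * x⁻¹ * u⁻¹)) * φ u := by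
    intro x u
    simp only [← map_mul]
    congr 1
    group
  have h1 : ∀ x : Q,
      ∑ i ∈ Finset.range n, φ ((x : E) * (t * s ^ i * (x : E)⁻¹ * (t * s ^ i)⁻¹)) * φ (t * s ^ i) =
      ∑ i ∈ Finset.range n, φ ((x : E) * (s ^ i * (x : E)⁻¹ * (s ^ i)⁻¹)) * φ (s ^ i) := by
    intro x
    have h := congrArg (fun z => φ (x : E) * z * φ (x : E)⁻¹) hT
    simp only [Finset.mul_sum, Finset.sum_mul, ← map_mul φ t] at h
    simpa only [hconj] using h
  have h2 : ∑ x : Q, ∑ i ∈ Finset.range n,
      φ ((x : E) * (t * s ^ i * (x : E)⁻¹ * (t * s ^ i)⁻¹)) * φ (t * s ^ i) =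
      ∑ x : Q, ∑ i ∈ Finset.range n,
        φ ((x : E) * (s ^ i * (x : E)⁻¹ * (s ^ i)⁻¹)) * φ (s ^ i) :=
    Finset.sum_congr rfl fun x _ => h1 x
  rw [Finset.sum_comm, Finset.sum_comm (s := (Finset.univ : Finset Q))] at h2
  simp only [← Finset.sum_mul] at h2
  have htsn : ∀ i, ∀ x ∈ Q, t * s ^ i * x * (t * s ^ i)⁻¹ ∈ Q := by
    intro i x hx
    have := htnorm _ (hnormi i x hx)
    simpa [mul_assoc] using this
  have hL : ∑ i ∈ Finset.range n,
      (∑ x : Q, φ ((x : E) * (t * s ^ i * (x : E)⁻¹ * (t * s ^ i)⁻¹))) * φ (t * s ^ i) =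
      P * ∑ i ∈ Finset.range n, φ (s ^ i) := by
    rw [← hT, Finset.mul_sum, Finset.mul_sum]
    refine Finset.sum_congr rfl fun i hi => ?_
    rw [hbij _ (htsn i) (hfpf' i (Finset.mem_range.mp hi)), map_mul]
  obtain ⟨m, rfl⟩ := Nat.exists_eq_succ_of_ne_zero hn.ne'
  have hR : ∑ i ∈ Finset.range (m + 1),
      (∑ x : Q, φ ((x : E) * (s ^ i * (x : E)⁻¹ * (s ^ i)⁻¹))) * φ (s ^ i) =
      (Nat.card Q : S) - P + P * ∑ i ∈ Finset.range (m + 1), φ (s ^ i) := by
    rw [Finset.sum_range_succ', Finset.sum_range_succ' (fun i => φ (s ^ i)), mul_add,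
      Finset.mul_sum]
    have hrest : ∑ i ∈ Finset.range m,
        (∑ x : Q, φ ((x : E) * (s ^ (i + 1) * (x : E)⁻¹ * (s ^ (i + 1))⁻¹))) * φ (s ^ (i + 1)) =
        ∑ i ∈ Finset.range m, P * φ (s ^ (i + 1)) := by
      refine Finset.sum_congr rfl fun i hi => ?_
      have hi' := Finset.mem_range.mp hi
      rw [hbij _ (hnormi (i + 1)) (hfpf (i + 1) (Nat.succ_pos i) (by omega))]
    rw [hrest]
    simp [Nat.card_eq_fintype_card]
    abel
  rw [hL, hR] at h2
  have hPQ : P = (Nat.card Q : S) := by
    exact (sub_eq_zero.mp (add_eq_right.mp h2.symm)).symm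
  have hPx : P * φ x₀ = P := by
    rw [hP, Finset.sum_mul]
    exact Fintype.sum_bijective (fun x : Q => x * ⟨x₀, hx₀⟩)
      (Equiv.mulRight (⟨x₀, hx₀⟩ : Q)).bijective _ _ fun x => by simp
  rw [← hPQ, mul_sub, mul_one, hPx, sub_self]

end Operators

/-- The action of the normaliser on the abelianisation. -/
noncomputable def abAct {Γ : Type*} [Group Γ] (V : Subgroup Γ) :
    normalizer (V : Set Γ) →* MulAut (Abelianization V) where
  toFun g := MulEquiv.abelianizationCongr (V.normalizerMonoidHom g)
  map_one' := by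
    ext w
    induction w using QuotientGroup.induction_on with
    | H v => exact congrArg Abelianization.of (DFunLike.congr_fun (map_one V.normalizerMonoidHom) v)
  map_mul' g h := by
    ext w
    induction w using QuotientGroup.induction_on with
    | H v => exact congrArg Abelianization.of (DFunLike.congr_fun (map_mul V.normalizerMonoidHom g h) v)

theorem abAct_of {Γ : Type*} [Group Γ] (V : Subgroup Γ) (g : normalizer (V : Set Γ)) (v : V) :
    abAct V g (Abelianization.of v) = Abelianization.of (V.normalizerMonoidHom g v) := rfl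

section Fixed

open FpfHeight.Basic in
/-- If `N` centralises `C_V(d)` and `d`, of prime order, fixes only `1` in `N`, then `N` centralises
`V`. -/
theorem centralizes_of_fixed {Γ : Type*} [Group Γ] [Finite Γ] {q : ℕ} [Fact q.Prime] (d : Γ)
    (N : Subgroup Γ) (hdq : d ^ q = 1) (hdN : d ∈ normalizer (N : Set Γ))
    (hfix : N ⊓ centralizer {d} = ⊥) :
    ∀ V : Subgroup Γ, Group.IsNilpotent V → d ∈ normalizer (V : Set Γ) →
      N ≤ normalizer (V : Set Γ) → q.Coprime (Nat.card V) →
      (Nat.card N).Coprime (Nat.card V) →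
      (∀ x ∈ N, ∀ v ∈ V ⊓ centralizer {d}, x * v = v * x) →
      N ≤ centralizer (V : Set Γ) := by
  intro V
  induction hk : Nat.card V using Nat.strong_induction_on generalizing V with
  | _ k ih =>
    intro hnil hdV hNV hqV hcop hc
    subst hk
    haveI := hnil
    by_cases hV : V = ⊥
    · subst hV
      intro x _
      rw [mem_centralizer_iff]
      intro y hy
      rw [SetLike.mem_coe, mem_bot] at hy
      subst hy; simp
    haveI : Nontrivial V := (nontrivial_iff_ne_bot V).mpr hV
    set D := (commutator V).map V.subtype with hD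
    have hDV : D ≤ V := map_subtype_le _
    have hDlt : Nat.card D < Nat.card V := by
      refine lt_of_le_of_ne (card_le_of_le hDV) fun h => ?_
      have h1 := Group.IsSolvable.commutator_lt_top_of_nontrivial V
      refine h1.ne (eq_top_of_card_eq _ ?_)
      rw [hD, card_subtype] at h
      exact h
    have hnD : normalizer (V : Set Γ) ≤ normalizer (D : Set Γ) := by
      intro g hg
      have hmap : ∀ g ∈ normalizer (V : Set Γ), ∀ x ∈ D, g * x * g⁻¹ ∈ D := by
        rintro g hg _ ⟨x, hx, rfl⟩
        exact ⟨V.normalizerMonoidHom ⟨g, hg⟩ x,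
          Subgroup.characteristic_iff_map_le.mp inferInstance
            (V.normalizerMonoidHom ⟨g, hg⟩) ⟨x, hx, rfl⟩, rfl⟩
      exact Subgroup.mem_normalizer_iff.mpr fun x =>
        ⟨hmap g hg x, fun h => by simpa [mul_assoc] using hmap g⁻¹ (inv_mem hg) _ h⟩
    have hND : N ≤ centralizer (D : Set Γ) :=
      ih _ hDlt D rfl (Group.nilpotent_of_mulEquiv
          ((commutator V).equivMapOfInjective _ V.subtype_injective))
        (hnD hdV) (hNV.trans hnD) (hqV.coprime_dvd_right (card_dvd_of_le hDV))
        (hcop.coprime_dvd_right (card_dvd_of_le hDV))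
        fun x hx v hv => hc x hx v ⟨hDV hv.1, hv.2⟩
    -- the action on the abelianisation
    set Ω := normalizer (V : Set Γ) with hΩ
    set N' := N.subgroupOf Ω with hN'
    set d' : Ω := ⟨d, hdV⟩ with hd'
    set φ : Ω →* AddMonoid.End (Additive (Abelianization V)) := toEnd.comp (abAct V) with hφ
    have hcardN : Nat.card N' = Nat.card N := Nat.card_congr (subgroupOfEquivOfLe hNV).toEquiv
    have hdq' : (abAct V d') ^ q = 1 := by
      rw [← map_pow]
      have : d' ^ q = 1 := Subtype.ext (by simpa using hdq)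
      rw [this, map_one]
    haveI : Fintype N' := Fintype.ofFinite N'
    set P : AddMonoid.End (Additive (Abelianization V)) := ∑ x : N', φ (x : Ω) with hP
    -- `N'` fixes the image of the sum of the powers of `d'`
    have hS : ∀ x ∈ N', φ x * ∑ i ∈ Finset.range q, φ (d' ^ i) =
        ∑ i ∈ Finset.range q, φ (d' ^ i) := by
      intro x hx
      refine AddMonoidHom.ext fun w => ?_
      set u := (∑ i ∈ Finset.range q, φ (d' ^ i)) w with hu
      show φ x u = u
      have hfixu : abAct V d' (Additive.toMul u) = Additive.toMul u := by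
        have := FpfHeight.Generation.apply_sum_pow (abAct V d') hdq' w
        simpa [hu, hφ, ← map_pow] using this
      obtain ⟨v, hv⟩ : ∃ v : V, Abelianization.of v = Additive.toMul u :=
        QuotientGroup.mk_surjective _
      have hza : zpowers d ≤ normalizer (V : Set Γ) := zpowers_le.mpr hdV
      have hkey : ∀ b ∈ zpowers d, b * (v : Γ) * b⁻¹ * (v : Γ)⁻¹ ∈ D := by
        intro b hb
        have hb' : abAct V ⟨b, hza hb⟩ (Abelianization.of v) = Abelianization.of v := by
          obtain ⟨j, rfl⟩ := hb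
          have : (⟨d ^ j, hza ⟨j, rfl⟩⟩ : Ω) = d' ^ j := Subtype.ext (by simp [hd'])
          rw [this, map_zpow]
          have hst : abAct V d' ∈ MulAction.stabilizer (MulAut (Abelianization V))
              (Abelianization.of v) := by
            rw [MulAction.mem_stabilizer_iff, MulAut.smul_def, hv, hfixu]
          exact MulAction.mem_stabilizer_iff.mp (zpow_mem hst j)
        rw [abAct_of] at hb'
        have h2 : V.normalizerMonoidHom ⟨b, hza hb⟩ v * v⁻¹ ∈ commutator V := by
          rw [← Abelianization.ker_of, MonoidHom.mem_ker, map_mul, map_inv, hb', mul_inv_cancel]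
        exact ⟨_, h2, rfl⟩
      obtain ⟨c, hc', hcfix⟩ := Coprime.exists_fixed_mul (A := zpowers d) (N := D)
        (hza.trans hnD) (by
          refine Nat.Coprime.coprime_dvd_left ?_ (hqV.coprime_dvd_right (card_dvd_of_le hDV))
          rw [Nat.card_zpowers]; exact orderOf_dvd_of_pow_eq_one hdq)
        (Or.inl (Coprime.isSolvable_zpowers d)) hkey
      have hcv : c * (v : Γ) ∈ V := mul_mem (hDV hc') v.2
      have hrep : Abelianization.of (⟨c * v, hcv⟩ : V) = Additive.toMul u := by
        obtain ⟨y, hy, hyc⟩ := hc'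
        have : (⟨c * v, hcv⟩ : V) = y * v := Subtype.ext (by simp [← hyc])
        rw [this, map_mul, hv]
        have : Abelianization.of y = 1 := by
          rw [← MonoidHom.mem_ker, Abelianization.ker_of]; exact hy
        rw [this, one_mul]
      have hmem : c * (v : Γ) ∈ centralizer ({d} : Set Γ) :=
        centralizer_le (Set.singleton_subset_iff.mpr (mem_zpowers d)) hcfix
      have hcomm := hc x hx (c * v) ⟨hcv, hmem⟩
      apply Additive.toMul.injective
      show abAct V x (Additive.toMul u) = Additive.toMul u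
      rw [← hrep, abAct_of]
      congr 1
      apply Subtype.ext
      show (x : Γ) * (c * v) * (x : Γ)⁻¹ = c * v
      rw [hcomm, mul_inv_cancel_right]
    -- conclude on the abelianisation
    set T : AddMonoid.End (Additive (Abelianization V)) := (Nat.card N' : ℕ) - P with hT
    have hPdef : P = ∑ x : N', φ (x : Ω) := hP
    have hPmul : ∀ x ∈ N', P * φ x = P ∧ φ x * P = P := by
      intro x hx
      constructor
      · rw [hPdef, Finset.sum_mul]
        exact Fintype.sum_bijective (fun y : N' => y * ⟨x, hx⟩)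
          (Equiv.mulRight (⟨x, hx⟩ : N')).bijective _ _ fun y => by simp
      · rw [hPdef, Finset.mul_sum]
        exact Fintype.sum_bijective (fun y : N' => ⟨x, hx⟩ * y)
          (Equiv.mulLeft (⟨x, hx⟩ : N')).bijective _ _ fun y => by simp
    have hop := frob_op φ N' d' (Nat.Prime.pos (Fact.out : q.Prime)) (n := q)
      (fun x hx => (mem_normalizer_iff.mp hdN (x : Γ)).mp hx)
      (fun i hi hiq x hx hfx => by
        have hxd : Commute (d ^ i) (x : Γ) := by
          have := congrArg Subtype.val hfx
          exact mul_inv_eq_iff_eq_mul.mp (by simpa [hd'] using this)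
        have hxd' := FpfHeight.Generation.commute_of_pow_commute Fact.out hdq
          (Nat.not_dvd_of_pos_of_lt hi hiq) hxd
        have : (x : Γ) ∈ N ⊓ centralizer {d} :=
          ⟨hx, mem_centralizer_singleton_iff.mpr hxd'.eq.symm⟩
        rw [hfix, mem_bot] at this
        exact Subtype.ext this)
      T (fun x hx => by
        refine Commute.sub_left (Nat.cast_commute _ _) ?_
        exact ((hPmul x hx).1).trans (hPmul x hx).2.symm)
      (by
        rw [hT, sub_mul, hPdef, Finset.sum_mul, Nat.card_eq_fintype_card,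
          Finset.sum_congr rfl (fun (x : N') _ => hS (x : Ω) x.2), Finset.sum_const, Finset.card_univ,
          nsmul_eq_mul, sub_self])
    have htriv : ∀ x ∈ N', abAct V x = 1 := by
      intro x hx
      have h := hop x hx
      have hcV : (Nat.card N').Coprime (Nat.card (Abelianization V)) := by
        rw [hcardN]
        exact hcop.coprime_dvd_right (Subgroup.card_quotient_dvd_card _)
      have h' : T * (φ x - 1) = 0 := eq_zero_of_coprime_natCast_mul hcV h
      rw [hT, sub_mul, mul_sub P, (hPmul x hx).1, mul_one, sub_self, sub_zero] at h'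
      have h'' : φ x = 1 := sub_eq_zero.mp (eq_zero_of_coprime_natCast_mul hcV h')
      refine MulEquiv.ext fun w => ?_
      have := DFunLike.congr_fun h'' (Additive.ofMul w)
      simpa [hφ, toEnd_apply] using this
    refine Coprime.le_centralizer_of_series (hcop.coprime_dvd_right (card_dvd_of_le hDV)) ?_ ?_
    · rw [commutator_le]
      intro v hv x hx
      have h := htriv ⟨x, hNV hx⟩ hx
      have hb' : Abelianization.of (V.normalizerMonoidHom ⟨x, hNV hx⟩ ⟨v, hv⟩) =
          Abelianization.of (⟨v, hv⟩ : V) := by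
        rw [← abAct_of, h]; rfl
      have h2 : (⟨v, hv⟩ : V) * (V.normalizerMonoidHom ⟨x, hNV hx⟩ ⟨v, hv⟩)⁻¹ ∈ commutator V := by
        rw [← Abelianization.ker_of, MonoidHom.mem_ker, map_mul, map_inv, hb', mul_inv_cancel]
      refine ⟨_, h2, ?_⟩
      show v * (x * v * x⁻¹)⁻¹ = v * x * v⁻¹ * x⁻¹
      group
    · rw [commutator_comm, commutator_eq_bot_iff_le_centralizer]
      exact hND

end Fixed

end Cfsg.Agent.Lib.LAEven57.AbelianCent
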