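import Mathlib
import Cfsg.Agent.Lib.Coprime.Generation

/-!
# General tools: characteristic subgroups, pairs in a group of order `q ^ 2`, generation
-/

set_option autoImplicit false
set_option linter.style.haveILetI false

namespace Cfsg.Agent.Lib.LAEven57.AbelianCent.Tools

open Subgroup

variable {G : Type*} [Group G]

theorem normalizer_le_map_char {H : Subgroup G} (C : Subgroup H) [hC : C.Characteristic] :
    normalizer (H : Set G) ≤ normalizer ((C.map H.subtype : Subgroup G) : Set G) := by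
  have key : ∀ g ∈ normalizer (H : Set G), ∀ x ∈ C.map H.subtype,
      g * x * g⁻¹ ∈ C.map H.subtype := by
    rintro g hg _ ⟨c, hc, rfl⟩
    exact ⟨_, characteristic_iff_map_le.1 hC (H.normalizerMonoidHom ⟨g, hg⟩) ⟨c, hc, rfl⟩, rfl⟩
  exact fun g hg => mem_normalizer_iff.mpr fun x =>
    ⟨key g hg x, fun h => by simpa [mul_assoc] using key g⁻¹ (inv_mem hg) _ h⟩

/-- A nontrivial normal subgroup of a nilpotent group meets the centre. -/
theorem eq_bot_of_inf_center [Group.IsNilpotent G] {N : Subgroup G} [hN : N.Normal]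
    (h : N ⊓ Subgroup.center G = ⊥) : N = ⊥ := by
  obtain ⟨n, hn⟩ := Group.IsNilpotent.nilpotent G
  have key : ∀ i, N ⊓ Subgroup.upperCentralSeries G i = ⊥ := by
    intro i
    induction i with
    | zero => simp [Subgroup.upperCentralSeries_zero]
    | succ i ih =>
      rw [Subgroup.eq_bot_iff_forall]
      rintro x ⟨hxN, hxZ⟩
      refine Subgroup.mem_bot.1 (h ▸ ⟨hxN, Subgroup.mem_center_iff.2 fun g => ?_⟩)
      have h1 := (Subgroup.mem_upperCentralSeries_succ_iff).1 hxZ g
      have h2 : x * g * x⁻¹ * g⁻¹ ∈ N := by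
        have h3 : x * (g * x⁻¹ * g⁻¹) ∈ N := N.mul_mem hxN (hN.conj_mem _ (N.inv_mem hxN) g)
        simpa [mul_assoc] using h3
      have h4 : x * g * x⁻¹ * g⁻¹ = 1 := Subgroup.mem_bot.1 (ih ▸ ⟨h2, h1⟩)
      rw [mul_inv_eq_one, mul_inv_eq_iff_eq_mul] at h4
      exact h4.symm
  simpa [hn] using key n

section Pairs

variable {A : Type*} [Group A] {q : ℕ}

/-- In a group of exponent `q` and order `q ^ 2`, two elements on different lines generate. -/
theorem eq_top_of_mem [Finite A] (hq : q.Prime) (hA : Nat.card A = q ^ 2)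
    (hAq : ∀ a : A, a ^ q = 1) {a d : A} (ha : a ≠ 1) (hd : d ∉ zpowers a) {K : Subgroup A}
    (haK : a ∈ K) (hdK : d ∈ K) : K = ⊤ := by
  refine eq_top_of_card_eq K ?_
  have hlt : Nat.card (zpowers a) < Nat.card K := by
    refine lt_of_le_of_ne (card_le_of_le (zpowers_le.mpr haK)) fun h => hd ?_
    rw [eq_of_le_of_card_ge (zpowers_le.mpr haK) h.ge]
    exact hdK
  haveI := Fact.mk hq
  rw [Nat.card_zpowers, orderOf_eq_prime_iff.mpr ⟨hAq a, ha⟩] at hlt
  obtain ⟨i, hi, hK⟩ := (Nat.dvd_prime_pow hq).mp (hA ▸ card_subgroup_dvd_card K)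
  rw [hA, hK]
  interval_cases i
  · rw [pow_zero] at hK; have := hq.one_lt; omega
  · rw [pow_one] at hK; omega
  · rfl

/-- An element outside two given lines. -/
theorem exists_not_mem_two [Finite A] (hq : q.Prime) (hA : Nat.card A = q ^ 2)
    (hAq : ∀ a : A, a ^ q = 1) (b c : A) :
    ∃ d : A, d ≠ 1 ∧ d ∉ zpowers b ∧ d ∉ zpowers c := by
  have hcyc : ∀ x : A, ∃ y : A, y ∉ zpowers x := by
    intro x
    by_contra hall
    push Not at hall
    have h1 : zpowers x = ⊤ := eq_top_iff.mpr fun y _ => hall y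
    have h2 := Nat.card_zpowers x
    rw [h1, Subgroup.card_top, hA] at h2
    have h3 : q ^ 2 ≤ q := h2 ▸ orderOf_le_of_pow_eq_one hq.pos (hAq x)
    nlinarith [hq.one_lt]
  obtain ⟨y, hy⟩ := hcyc b
  obtain ⟨z, hz⟩ := hcyc c
  by_cases hyc : y ∉ zpowers c
  · exact ⟨y, fun h => hy (h ▸ one_mem _), hy, hyc⟩
  by_cases hzb : z ∉ zpowers b
  · exact ⟨z, fun h => hz (h ▸ one_mem _), hzb, hz⟩
  push Not at hyc hzb
  refine ⟨y * z, fun h => hy ?_, fun h => hy ?_, fun h => hz ?_⟩
  · rw [eq_inv_of_mul_eq_one_left h]; exact inv_mem hzb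
  · simpa using mul_mem h (inv_mem hzb)
  · simpa using mul_mem (inv_mem hyc) h

theorem not_isCyclic [Finite A] (hq : q.Prime) (hA : Nat.card A = q ^ 2)
    (hAq : ∀ a : A, a ^ q = 1) : ¬ IsCyclic A := by
  intro h
  obtain ⟨g, hg⟩ := h.exists_generator
  obtain ⟨d, -, hd, -⟩ := exists_not_mem_two hq hA hAq g g
  exact hd (hg d)

end Pairs

/-- Generation by the centralisers of the non-trivial elements, for an action through a
homomorphism. -/
theorem le_of_centralizers_le [Finite G] {A : Type*} [Group A] [Finite A] {q : ℕ} (hq : q.Prime)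
    (hA : Nat.card A = q ^ 2) (hAq : ∀ a : A, a ^ q = 1) (hAc : ∀ a b : A, a * b = b * a)
    (α : A →* G) {X K : Subgroup G} (hX : ∀ a, α a ∈ normalizer (X : Set G))
    (hqX : q.Coprime (Nat.card X)) (h : ∀ a : A, a ≠ 1 → X ⊓ centralizer {α a} ≤ K) :
    X ≤ K := by
  by_cases hinj : Function.Injective α
  · haveI : IsMulCommutative α.range := ⟨⟨fun x y => Subtype.ext (by
      obtain ⟨a, ha⟩ := x.2
      obtain ⟨b, hb⟩ := y.2
      show (x : G) * y = y * x
      rw [← ha, ← hb, ← map_mul, ← map_mul, hAc])⟩⟩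
    have hnc : ¬ IsCyclic α.range := fun hc =>
      haveI := hc
      not_isCyclic hq hA hAq
        (isCyclic_of_surjective (MonoidHom.ofInjective hinj).symm.toMonoidHom
          (MulEquiv.surjective _))
    have hcard : Nat.card α.range = q ^ 2 :=
      (Nat.card_congr (MonoidHom.ofInjective hinj).toEquiv).symm.trans hA
    have hle : α.range ≤ normalizer (X : Set G) := by
      rintro _ ⟨a, rfl⟩
      exact hX a
    rw [← Coprime.iSup_centralizer_eq hnc hle (by rw [hcard]; exact hqX.pow_left 2)]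
    refine iSup₂_le ?_
    rintro _ ⟨⟨a, rfl⟩, ha⟩
    exact h a fun e => ha (by rw [e, map_one])
  · rw [← MonoidHom.ker_eq_bot_iff] at hinj
    obtain ⟨a, ha, ha1⟩ := (Subgroup.bot_or_exists_ne_one α.ker).resolve_left hinj
    refine le_trans (le_inf le_rfl ?_) (h a ha1)
    intro x _
    rw [mem_centralizer_singleton_iff, MonoidHom.mem_ker.mp ha]
    simp

end Cfsg.Agent.Lib.LAEven57.AbelianCent.Tools
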