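import Mathlib
import Cfsg.Agent.Lib.LAEven57.AbelianCent.Operators
import Cfsg.Agent.Lib.LAEven57.AbelianCent.Tools
import Cfsg.Agent.Lib.Cores.Basic
import Cfsg.Agent.Lib.Coprime.Glauberman
import Cfsg.Agent.Lib.Hall.Coprime
import Cfsg.Agent.Lib.Hall.Converse

/-!
# A minimal group with an action of `C_q × C_q` whose centralisers are abelian

Invariant subgroups, the unique invariant Sylow subgroups, invariant `{p, r}`-subgroups, cores.
-/

set_option autoImplicit false
set_option linter.style.haveILetI false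
set_option linter.unusedSectionVars false

namespace Cfsg.Agent.Lib.LAEven57.AbelianCent

open Subgroup

variable {Γ : Type*} [Group Γ]

/-- `A ≅ C_q × C_q` acts coprimely on `G` and the centralisers of its non-trivial elements are
abelian. -/
structure Setup (q : ℕ) (G A : Subgroup Γ) : Prop where
  hq : q.Prime
  hA : Nat.card A = q ^ 2
  hAc : ∀ a ∈ A, ∀ b ∈ A, a * b = b * a
  hAq : ∀ a ∈ A, a ^ q = 1
  hAG : A ≤ normalizer (G : Set Γ)
  hqG : q.Coprime (Nat.card G)
  top : G ⊔ A = ⊤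
  comm : ∀ a ∈ A, a ≠ 1 → ∀ x ∈ G ⊓ centralizer {a}, ∀ y ∈ G ⊓ centralizer {a}, x * y = y * x

/-- The minimal situation. -/
structure Min (q : ℕ) (G A : Subgroup Γ) : Prop extends Setup q G A where
  fpf : G ⊓ centralizer (A : Set Γ) = ⊥
  proper : ∀ X : Subgroup Γ, X ≤ G → A ≤ normalizer (X : Set Γ) → X ≠ G → Group.IsSolvable X
  simple : ∀ N : Subgroup Γ, N ≤ G → N.Normal → N = ⊥ ∨ N = G
  nsol : ¬ Group.IsSolvable G

/-- `A`-invariant subgroups of `G`. -/
def Inv (G A X : Subgroup Γ) : Prop := X ≤ G ∧ A ≤ normalizer (X : Set Γ)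

/-- `O_s(X)` inside the ambient group. -/
abbrev core (s : ℕ) (X : Subgroup Γ) : Subgroup Γ := (Cfsg.pCore s X).map X.subtype

/-- The invariant Sylow subgroup. -/
structure IsSyl (G A : Subgroup Γ) (p : ℕ) (P : Subgroup Γ) : Prop where
  inv : Inv G A P
  isP : IsPGroup p P
  index : ¬ p ∣ P.relIndex G
  ge : ∀ S : Subgroup Γ, Inv G A S → IsPGroup p S → S ≤ P

/-- Invariant `{p, r}`-subgroups. -/
def PR (G A : Subgroup Γ) (p r : ℕ) (X : Subgroup Γ) : Prop :=
  Inv G A X ∧ ∀ s : ℕ, s.Prime → s ∣ Nat.card X → s = p ∨ s = r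

theorem PR.symm {G A X : Subgroup Γ} {p r : ℕ} (h : PR G A p r X) : PR G A r p X :=
  ⟨h.1, fun s hs hd => (h.2 s hs hd).symm⟩

variable {q : ℕ} {G A : Subgroup Γ}

namespace Inv

variable {X Y : Subgroup Γ}

theorem inf (hX : Inv G A X) (hY : A ≤ normalizer (Y : Set Γ)) : Inv G A (X ⊓ Y) :=
  ⟨inf_le_left.trans hX.1, Coprime.le_normalizer_inf hX.2 hY⟩

theorem sup (hX : Inv G A X) (hY : Inv G A Y) : Inv G A (X ⊔ Y) :=
  ⟨sup_le hX.1 hY.1, Coprime.le_normalizer_sup hX.2 hY.2⟩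

theorem map_char (hX : Inv G A X) (C : Subgroup X) [C.Characteristic] :
    Inv G A (C.map X.subtype) :=
  ⟨(map_subtype_le _).trans hX.1, hX.2.trans (Tools.normalizer_le_map_char C)⟩

theorem core (hX : Inv G A X) (s : ℕ) : Inv G A (core s X) :=
  haveI : (Cfsg.pCore s X).Characteristic := inferInstance
  hX.map_char _

end Inv

theorem le_normalizer_centralizer {S : Subgroup Γ} (hS : A ≤ normalizer (S : Set Γ)) :
    A ≤ normalizer ((centralizer (S : Set Γ) : Subgroup Γ) : Set Γ) := by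
  refine le_normalizer_iff.mpr fun a ha x hx => ?_
  rw [mem_centralizer_iff]
  intro s hs
  have hs' : a⁻¹ * s * a ∈ S := (mem_normalizer_iff''.mp (hS ha) s).mp hs
  have hc := mem_centralizer_iff.mp hx _ hs'
  calc s * (a * x * a⁻¹) = a * ((a⁻¹ * s * a) * x) * a⁻¹ := by group
    _ = a * (x * (a⁻¹ * s * a)) * a⁻¹ := by rw [hc]
    _ = a * x * a⁻¹ * s := by group

theorem le_normalizer_normalizer {S : Subgroup Γ} (hS : A ≤ normalizer (S : Set Γ)) :
    A ≤ normalizer ((normalizer (S : Set Γ) : Subgroup Γ) : Set Γ) :=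
  hS.trans le_normalizer

theorem core_le (s : ℕ) (X : Subgroup Γ) : core s X ≤ X := map_subtype_le _

theorem le_normalizer_core (s : ℕ) (X : Subgroup Γ) :
    X ≤ normalizer ((core s X : Subgroup Γ) : Set Γ) :=
  haveI : (Cfsg.pCore s X).Characteristic := inferInstance
  le_normalizer.trans (Tools.normalizer_le_map_char _)

theorem isPGroup_core [Finite Γ] (s : ℕ) (X : Subgroup Γ) : IsPGroup s (core s X) :=
  (Cores.pCore_isPGroup s).map _

theorem le_core {s : ℕ} {X S : Subgroup Γ} (hSX : S ≤ X) (hn : X ≤ normalizer (S : Set Γ))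
    (hS : IsPGroup s S) : S ≤ core s X := by
  haveI : (S.subgroupOf X).Normal := normal_subgroupOf_of_le_normalizer hn
  calc S = (S.subgroupOf X).map X.subtype := (map_subgroupOf_eq_of_le hSX).symm
    _ ≤ _ := Subgroup.map_mono (Cores.le_pCore (hS.of_equiv (subgroupOfEquivOfLe hSX).symm))

/-- Groups of coprime order meet trivially. -/
theorem inf_eq_bot_of_ne [Finite Γ] {s t : ℕ} (hs : s.Prime) (ht : t.Prime) (hst : s ≠ t)
    {S T : Subgroup Γ} (hS : IsPGroup s S) (hT : IsPGroup t T) : S ⊓ T = ⊥ := by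
  refine Coprime.inf_eq_bot_of_coprime ?_
  haveI := Fact.mk hs
  haveI := Fact.mk ht
  exact IsPGroup.coprime_card_of_ne s t hst S T hS hT

/-- Two subgroups of coprime prime-power orders normalising each other commute. -/
theorem commute_of_normalizes [Finite Γ] {s t : ℕ} (hs : s.Prime) (ht : t.Prime) (hst : s ≠ t)
    {S T : Subgroup Γ} (hS : IsPGroup s S) (hT : IsPGroup t T)
    (h1 : S ≤ normalizer (T : Set Γ)) (h2 : T ≤ normalizer (S : Set Γ)) :
    S ≤ centralizer (T : Set Γ) := by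
  intro x hx
  rw [mem_centralizer_iff]
  intro y hy
  have h3 : x * y * x⁻¹ * y⁻¹ ∈ S ⊓ T := by
    refine ⟨?_, mul_mem ((mem_normalizer_iff.mp (h1 hx) y).mp hy) (T.inv_mem hy)⟩
    have := mul_mem hx ((mem_normalizer_iff.mp (h2 hy) x⁻¹).mp (inv_mem hx))
    simpa [mul_assoc] using this
  rw [inf_eq_bot_of_ne hs ht hst hS hT, mem_bot, mul_inv_eq_one, mul_inv_eq_iff_eq_mul] at h3
  exact h3.symm

namespace Setup

variable [Finite Γ] (h : Setup q G A)
include h

theorem normal : G.Normal := by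
  rw [← normalizer_eq_top_iff, eq_top_iff, ← h.top]
  exact sup_le le_normalizer h.hAG

theorem inv_self : Inv G A G := ⟨le_rfl, h.hAG⟩

theorem le_normalizer_singleton {a : Γ} (ha : a ∈ A) :
    A ≤ normalizer ((centralizer ({a} : Set Γ) : Subgroup Γ) : Set Γ) := by
  intro b hb
  exact le_normalizer (mem_centralizer_singleton_iff.mpr (h.hAc b hb a ha))

theorem inv_fixed {X : Subgroup Γ} (hX : Inv G A X) {a : Γ} (ha : a ∈ A) :
    Inv G A (X ⊓ centralizer {a}) :=
  hX.inf (h.le_normalizer_singleton ha)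

theorem card_coprime {X : Subgroup Γ} (hX : X ≤ G) : q.Coprime (Nat.card X) :=
  h.hqG.coprime_dvd_right (card_dvd_of_le hX)

theorem card_A_coprime {X : Subgroup Γ} (hX : X ≤ G) : (Nat.card A).Coprime (Nat.card X) := by
  rw [h.hA]; exact (h.card_coprime hX).pow_left 2

theorem solvable_A : Group.IsSolvable A :=
  haveI : IsMulCommutative A := ⟨⟨fun x y => Subtype.ext (h.hAc x x.2 y y.2)⟩⟩
  Coprime.isSolvable_of_isMulCommutative A

theorem pow_eq_one_subtype (a : A) : a ^ q = 1 := Subtype.ext (by simpa using h.hAq a a.2)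

/-- Generation by the centralisers. -/
theorem le_of_fixed_le {X K : Subgroup Γ} (hX : Inv G A X)
    (hK : ∀ a ∈ A, a ≠ 1 → X ⊓ centralizer {a} ≤ K) : X ≤ K :=
  Tools.le_of_centralizers_le h.hq h.hA h.pow_eq_one_subtype
    (fun a b => Subtype.ext (h.hAc a a.2 b b.2)) A.subtype (fun a => hX.2 a.2)
    (h.card_coprime hX.1)
    fun a ha => hK a a.2 fun e => ha (Subtype.ext e)

theorem exists_not_mem_two {b c : Γ} (hb : b ∈ A) (hc : c ∈ A) :
    ∃ d ∈ A, d ≠ 1 ∧ d ∉ zpowers b ∧ d ∉ zpowers c := by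
  obtain ⟨d, hd1, hdb, hdc⟩ := Tools.exists_not_mem_two h.hq h.hA h.pow_eq_one_subtype
    (⟨b, hb⟩ : A) ⟨c, hc⟩
  refine ⟨d, d.2, fun e => hd1 (Subtype.ext e), fun ⟨i, hi⟩ => hdb ⟨i, Subtype.ext ?_⟩,
    fun ⟨i, hi⟩ => hdc ⟨i, Subtype.ext ?_⟩⟩
  · simpa using hi
  · simpa using hi

theorem mem_zpowers_symm {a d : Γ} (ha : a ∈ A) (hd1 : d ≠ 1) (hd : d ∈ zpowers a) :
    a ∈ zpowers d := by
  by_cases ha1 : a = 1
  · subst ha1; exact one_mem _
  haveI := Fact.mk h.hq
  have hcard : Nat.card (zpowers a) = q := by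
    rw [Nat.card_zpowers]; exact orderOf_eq_prime_iff.mpr ⟨h.hAq a ha, ha1⟩
  have hdA : d ∈ A := zpowers_le.mpr ha hd
  have heq : zpowers d = zpowers a := eq_of_le_of_card_ge (zpowers_le.mpr hd) (by
    rw [hcard, Nat.card_zpowers]; exact (orderOf_eq_prime_iff.mpr ⟨h.hAq d hdA, hd1⟩).ge)
  rw [heq]; exact mem_zpowers a

/-- Elements of one line have the same centraliser. -/
theorem centralizer_eq {a d : Γ} (ha : a ∈ A) (hd1 : d ≠ 1) (hd : d ∈ zpowers a) :
    centralizer ({d} : Set Γ) = centralizer {a} := by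
  have key : ∀ u v : Γ, u ∈ zpowers v → centralizer ({v} : Set Γ) ≤ centralizer {u} := by
    rintro u v ⟨i, rfl⟩ x hx
    exact mem_centralizer_singleton_iff.mpr
      ((show Commute x v from mem_centralizer_singleton_iff.mp hx).zpow_right i).eq
  exact le_antisymm (key a d (h.mem_zpowers_symm ha hd1 hd)) (key d a hd)

theorem exists_inv_syl_ge {X S : Subgroup Γ} (hX : Inv G A X) (hS : Inv G A S) (hSX : S ≤ X)
    (p : ℕ) [Fact p.Prime] (hSp : IsPGroup p S) :
    ∃ T : Subgroup Γ, Inv G A T ∧ T ≤ X ∧ IsPGroup p T ∧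
      Nat.card T = p ^ (Nat.card X).factorization p ∧ S ≤ T := by
  obtain ⟨T, hST, hT⟩ := Coprime.exists_invariant_sylow_ge hX.2 (h.card_A_coprime hX.1)
    (Or.inl h.solvable_A) p S hSX hSp hS.2
  exact ⟨_, ⟨(map_subtype_le _).trans hX.1, hT⟩, map_subtype_le _, T.2.map _,
    Coprime.card_sylow_map T, hST⟩

end Setup

namespace Min

variable [Finite Γ] (h : Min q G A)
include h

theorem eq_one_of_commute {a d : Γ} (ha : a ∈ A) (ha1 : a ≠ 1) (hd : d ∈ A) (hda : d ∉ zpowers a)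
    {x : Γ} (hx : x ∈ G) (h1 : x * a = a * x) (h2 : x * d = d * x) : x = 1 := by
  have hm : ∀ b : A, b ∈ (centralizer ({x} : Set Γ)).comap A.subtype ↔ x * b = b * x := by
    intro b
    rw [mem_comap, mem_centralizer_singleton_iff]
    exact eq_comm
  have ht := Tools.eq_top_of_mem h.hq h.hA h.pow_eq_one_subtype
    (a := (⟨a, ha⟩ : A)) (d := ⟨d, hd⟩) (fun e => ha1 (congrArg Subtype.val e))
    (fun ⟨i, hi⟩ => hda ⟨i, by simpa using congrArg Subtype.val hi⟩)
    ((hm _).mpr h1) ((hm _).mpr h2)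
  have hc : x ∈ G ⊓ centralizer (A : Set Γ) := by
    refine ⟨hx, mem_centralizer_iff.mpr fun b hb => ?_⟩
    exact ((hm ⟨b, hb⟩).mp (ht ▸ mem_top _)).symm
  rwa [h.fpf, mem_bot] at hc

theorem inf_fixed_eq_bot {X : Subgroup Γ} (hX : X ≤ G) {a d : Γ} (ha : a ∈ A) (ha1 : a ≠ 1)
    (hd : d ∈ A) (hda : d ∉ zpowers a) : X ⊓ centralizer {a} ⊓ centralizer {d} = ⊥ := by
  rw [eq_bot_iff]
  intro x hx
  exact mem_bot.mpr (h.eq_one_of_commute ha ha1 hd hda (hX hx.1.1)
    (mem_centralizer_singleton_iff.mp hx.1.2) (mem_centralizer_singleton_iff.mp hx.2))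

/-- An `a`-fixed `N` centralising the `d`-fixed points of `V` centralises `V`. -/
theorem centralizes {V N : Subgroup Γ} (hV : Inv G A V) (hN : Inv G A N)
    (hNV : N ≤ normalizer (V : Set Γ)) (hnil : Group.IsNilpotent V)
    (hcop : (Nat.card N).Coprime (Nat.card V)) {a d : Γ} (ha : a ∈ A) (ha1 : a ≠ 1) (hd : d ∈ A)
    (hda : d ∉ zpowers a) (hNa : N ≤ centralizer {a})
    (hc : ∀ x ∈ N, ∀ v ∈ V ⊓ centralizer {d}, x * v = v * x) :
    N ≤ centralizer (V : Set Γ) := by
  haveI := Fact.mk h.hq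
  refine centralizes_of_fixed d N (h.hAq d hd) (hN.2 hd) ?_ V hnil (hV.2 hd) hNV
    (h.card_coprime hV.1) hcop hc
  rw [eq_bot_iff]
  intro x hx
  exact mem_bot.mpr (h.eq_one_of_commute ha ha1 hd hda (hN.1 hx.1)
    (mem_centralizer_singleton_iff.mp (hNa hx.1)) (mem_centralizer_singleton_iff.mp hx.2))

theorem centralizes_of_bot {V N : Subgroup Γ} (hV : Inv G A V) (hN : Inv G A N)
    (hNV : N ≤ normalizer (V : Set Γ)) (hnil : Group.IsNilpotent V)
    (hcop : (Nat.card N).Coprime (Nat.card V)) {a d : Γ} (ha : a ∈ A) (ha1 : a ≠ 1) (hd : d ∈ A)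
    (hda : d ∉ zpowers a) (hNa : N ≤ centralizer {a}) (hbot : V ⊓ centralizer {d} = ⊥) :
    N ≤ centralizer (V : Set Γ) :=
  h.centralizes hV hN hNV hnil hcop ha ha1 hd hda hNa fun x _ v hv => by
    rw [hbot, mem_bot] at hv
    subst hv
    simp

theorem exists_syl (p : ℕ) [Fact p.Prime] : ∃ P : Subgroup Γ, IsSyl G A p P := by
  obtain ⟨T, hT⟩ := Coprime.exists_invariant_sylow h.hAG (h.card_A_coprime le_rfl)
    (Or.inl h.solvable_A) p
  refine ⟨_, ⟨⟨map_subtype_le _, hT⟩, T.2.map _, ?_, ?_⟩⟩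
  · have := T.not_dvd_index
    rwa [relIndex, subgroupOf, comap_map_eq_self_of_injective G.subtype_injective]
  · intro S hS hSp
    obtain ⟨T', hST', hT'⟩ := Coprime.exists_invariant_sylow_ge h.hAG (h.card_A_coprime le_rfl)
      (Or.inl h.solvable_A) p S hS.1 hSp hS.2
    obtain ⟨c, hc, hcT⟩ := Coprime.exists_conj_invariant_sylow h.hAG (h.card_A_coprime le_rfl)
      (Or.inl h.solvable_A) T' T hT' hT
    rw [h.fpf, mem_bot] at hc
    subst hc
    rw [map_one, one_smul] at hcT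
    exact hcT ▸ hST'

theorem card_inf {p : ℕ} [Fact p.Prime] {P X : Subgroup Γ} (hP : IsSyl G A p P) (hX : Inv G A X) :
    Nat.card (P ⊓ X : Subgroup Γ) = p ^ (Nat.card X).factorization p := by
  obtain ⟨T, hT, hTX, hTp, hTc, -⟩ := h.exists_inv_syl_ge hX (S := ⊥)
    ⟨bot_le, fun x _ => mem_normalizer_iff.mpr fun y => by simp⟩ bot_le p IsPGroup.of_bot
  obtain ⟨k, hk⟩ := IsPGroup.iff_card.mp (IsPGroup.to_inf_left (K := X) hP.isP)
  refine le_antisymm ?_ (hTc ▸ card_le_of_le (le_inf (hP.ge T hT hTp) hTX))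
  rw [hk]
  exact Nat.pow_le_pow_right (Fact.out : p.Prime).pos
    ((Nat.Prime.pow_dvd_iff_le_factorization Fact.out Nat.card_pos.ne').mp
      (hk ▸ card_dvd_of_le inf_le_right))

/-- An invariant subgroup all of whose primes are `p` and `r` is generated by its two parts. -/
theorem le_of_parts {p r : ℕ} [Fact p.Prime] [Fact r.Prime] {P R X K : Subgroup Γ}
    (hP : IsSyl G A p P) (hR : IsSyl G A r R) (hX : PR G A p r X) (h1 : P ⊓ X ≤ K)
    (h2 : R ⊓ X ≤ K) : X ≤ K := by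
  have hp := card_dvd_of_le (le_inf h1 (inf_le_right : P ⊓ X ≤ X))
  have hr := card_dvd_of_le (le_inf h2 (inf_le_right : R ⊓ X ≤ X))
  rw [h.card_inf hP hX.1] at hp
  rw [h.card_inf hR hX.1] at hr
  have heq : Nat.card (K ⊓ X : Subgroup Γ) = Nat.card X := by
    refine Nat.dvd_antisymm (card_dvd_of_le inf_le_right) ?_
    rw [← Nat.factorization_prime_le_iff_dvd Nat.card_pos.ne' Nat.card_pos.ne']
    intro s hs
    by_cases hd : s ∣ Nat.card X
    · rcases hX.2 s hs hd with rfl | rfl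
      · exact (hs.pow_dvd_iff_le_factorization Nat.card_pos.ne').mp hp
      · exact (hs.pow_dvd_iff_le_factorization Nat.card_pos.ne').mp hr
    · rw [Nat.factorization_eq_zero_of_not_dvd hd]; exact Nat.zero_le _
  intro x hx
  have : x ∈ K ⊓ X := (eq_of_le_of_card_ge inf_le_right heq.ge).ge hx
  exact this.1

theorem solvable_PR {p r : ℕ} {X : Subgroup Γ} (hX : PR G A p r X) : Group.IsSolvable X := by
  refine Hall.Converse.isSolvable_of_card_primeFactors_le_two ?_
  calc (Nat.card X).primeFactors.card ≤ ({p, r} : Finset ℕ).card := by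
        refine Finset.card_le_card fun s hs => ?_
        rcases hX.2 s (Nat.prime_of_mem_primeFactors hs) (Nat.dvd_of_mem_primeFactors hs) with
          rfl | rfl <;> simp
    _ ≤ 2 := Finset.card_le_two

/-- In a solvable invariant `X` one invariant `{p, r}`-subgroup contains both parts. -/
theorem exists_parts {p r : ℕ} [Fact p.Prime] [Fact r.Prime] {P R X : Subgroup Γ}
    (hP : IsSyl G A p P) (hR : IsSyl G A r R) (hX : Inv G A X) (hsol : Group.IsSolvable X) :
    ∃ H : Subgroup Γ, PR G A p r H ∧ H ≤ X ∧ P ⊓ X ≤ H ∧ R ⊓ X ≤ H := by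
  obtain ⟨H, hH, hHA⟩ := Hall.Coprime.exists_invariant hX.2 (h.card_A_coprime hX.1) hsol
    ({p, r} : Set ℕ)
  have hHinv : Inv G A H := ⟨hH.1.trans hX.1, hHA⟩
  have key : ∀ (s : ℕ) [Fact s.Prime] (S : Subgroup Γ), IsSyl G A s S → s ∈ ({p, r} : Set ℕ) →
      S ⊓ X ≤ H := by
    intro s _ S hS hs
    have hmul := relIndex_mul_relIndex (⊥ : Subgroup Γ) H X bot_le hH.1
    rw [relIndex_bot_left, relIndex_bot_left] at hmul
    have hfac : (Nat.card H).factorization s = (Nat.card X).factorization s := by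
      have hne : H.relIndex X ≠ 0 := index_ne_zero_of_finite
      rw [← hmul, Nat.factorization_mul Nat.card_pos.ne' hne]
      have := Nat.factorization_eq_zero_of_not_dvd (hH.2.2 s Fact.out hs)
      simp [this]
    have heq : S ⊓ H = S ⊓ X := eq_of_le_of_card_ge (inf_le_inf_left _ hH.1) (by
      rw [h.card_inf hS hHinv, h.card_inf hS hX, hfac])
    exact heq ▸ inf_le_right
  refine ⟨H, ⟨hHinv, fun s hs hd => ?_⟩, hH.1, key p P hP (by simp), key r R hR (by simp)⟩
  simpa using hH.2.1 s hs hd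

theorem normalizer_proper {S : Subgroup Γ} (hS : Inv G A S) (hS1 : S ≠ ⊥)
    (hsol : Group.IsSolvable S) : G ⊓ normalizer (S : Set Γ) ≠ G := by
  intro he
  have hn : S.Normal := by
    rw [← normalizer_eq_top_iff, eq_top_iff, ← h.top]
    exact sup_le (inf_eq_left.mp he) hS.2
  rcases h.simple S hS.1 hn with h1 | h1
  · exact hS1 h1
  · exact h.nsol (h1 ▸ hsol)

theorem inv_normalizer {S : Subgroup Γ} (hS : Inv G A S) :
    Inv G A (G ⊓ normalizer (S : Set Γ)) :=
  h.inv_self.inf (le_normalizer_normalizer hS.2)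

theorem solvable_normalizer {S : Subgroup Γ} (hS : Inv G A S) (hS1 : S ≠ ⊥)
    (hsol : Group.IsSolvable S) : Group.IsSolvable (G ⊓ normalizer (S : Set Γ) : Subgroup Γ) :=
  h.proper _ inf_le_left (h.inv_normalizer hS).2 (h.normalizer_proper hS hS1 hsol)

theorem inv_centralizer {S : Subgroup Γ} (hS : Inv G A S) :
    Inv G A (G ⊓ centralizer (S : Set Γ)) :=
  h.inv_self.inf (le_normalizer_centralizer hS.2)

theorem solvable_centralizer {S : Subgroup Γ} (hS : Inv G A S) (hS1 : S ≠ ⊥)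
    (hsol : Group.IsSolvable S) : Group.IsSolvable (G ⊓ centralizer (S : Set Γ) : Subgroup Γ) :=
  haveI := h.solvable_normalizer hS hS1 hsol
  Coprime.isSolvable_of_le (B := G ⊓ normalizer (S : Set Γ))
    (inf_le_inf_left G (Subgroup.centralizer_le_normalizer _))

theorem exists_maximal {p r : ℕ} {X : Subgroup Γ} (hX : PR G A p r X) :
    ∃ Y : Subgroup Γ, X ≤ Y ∧ Maximal (PR G A p r) Y :=
  Finite.exists_le_maximal hX

end Min

end Cfsg.Agent.Lib.LAEven57.AbelianCent
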