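import Mathlib
import Cfsg.Agent.Lib.LAEven57.AbelianCent.Setup
import Cfsg.Agent.Lib.PSolvable.HallHigman
import Cfsg.Agent.Lib.Frobenius.PComplement
import Cfsg.Agent.Lib.OddOrder.BenderLocal

/-!
# The lines of a minimal configuration on which a Sylow subgroup has fixed points

`not_one_line` : no Sylow subgroup is fixed by a non-trivial element of `A`.
`exists_lines` : for odd `p`, all lines but one at most have fixed points on the Sylow `p`-subgroup.
-/

set_option autoImplicit false
set_option linter.style.haveILetI false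
set_option linter.unusedSectionVars false

namespace Cfsg.Agent.Lib.LAEven57.AbelianCent

open Subgroup

variable {Γ : Type*} [Group Γ]

/-- The elements of exponent dividing `n` of a commutative subgroup. -/
def tors (X : Subgroup Γ) (hX : ∀ x ∈ X, ∀ y ∈ X, x * y = y * x) (n : ℕ) : Subgroup Γ where
  carrier := {x | x ∈ X ∧ x ^ n = 1}
  one_mem' := ⟨X.one_mem, one_pow n⟩
  mul_mem' {a b} ha hb := ⟨X.mul_mem ha.1 hb.1, by
    rw [(show Commute a b from hX a ha.1 b hb.1).mul_pow, ha.2, hb.2, one_mul]⟩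
  inv_mem' {a} ha := ⟨X.inv_mem ha.1, by rw [inv_pow, ha.2, inv_one]⟩

theorem tors_le {X : Subgroup Γ} (hX : ∀ x ∈ X, ∀ y ∈ X, x * y = y * x) (n : ℕ) :
    tors X hX n ≤ X := fun _ h => h.1

theorem inv_tors {G A X : Subgroup Γ} (hinv : Inv G A X)
    (hX : ∀ x ∈ X, ∀ y ∈ X, x * y = y * x) (n : ℕ) : Inv G A (tors X hX n) := by
  refine ⟨(tors_le hX n).trans hinv.1, le_normalizer_iff.mpr fun a ha x hx => ?_⟩
  exact ⟨(mem_normalizer_iff.mp (hinv.2 ha) x).mp hx.1, by rw [conj_pow, hx.2]; group⟩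

/-- Every element off a line has a line on which `V` has no fixed point. -/
def Sparse (A V : Subgroup Γ) : Prop :=
  ∀ e ∈ A, e ≠ 1 → ∃ d ∈ A, d ∉ zpowers e ∧ V ⊓ centralizer {d} = ⊥

theorem Sparse.mono {A V W : Subgroup Γ} (h : Sparse A W) (hle : V ≤ W) : Sparse A V :=
  fun e he he1 => by
    obtain ⟨d, hd, hde, hb⟩ := h e he he1
    exact ⟨d, hd, hde, le_bot_iff.mp (hb ▸ inf_le_inf_right _ hle)⟩

variable [Finite Γ] {q : ℕ} {G A : Subgroup Γ} (h : Min q G A)
include h

/-- `G` has no normal `r`-complement. -/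
theorem Min.no_complement {r : ℕ} [Fact r.Prime] (hr : r ∣ Nat.card G) :
    ¬ Cfsg.HasNormalPComplement r G := by
  intro hc
  haveI := h.normal
  have hnd : ¬ r ∣ Nat.card (Cfsg.pResidual r G) :=
    Transfer.PResidual.hasNormalPComplement_iff_not_dvd.mp hc
  have hn : ((Cfsg.pResidual r G).map G.subtype).Normal := by
    haveI : (Cfsg.pResidual r G).Characteristic :=
      characteristic_iff_map_le.mpr fun e => Transfer.PResidual.map_pResidual_le e.toMonoidHom
    exact Cores.normal_map_subtype G _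
  rcases h.simple _ (map_subtype_le _) hn with h1 | h1
  · rw [Subgroup.map_eq_bot_iff, ker_subtype, le_bot_iff] at h1
    exact h.nsol (Coprime.isSolvable_of_isPGroup (Transfer.PResidual.pResidual_eq_bot_iff.mp h1))
  · exact hnd (by rw [← card_map_of_injective G.subtype_injective, h1]; exact hr)

variable {p : ℕ} [Fact p.Prime] {P : Subgroup Γ} (hP : IsSyl G A p P)
include hP

/-- The normaliser of a sparse `p`-subgroup. -/
theorem Min.normalizer_le {V : Subgroup Γ} (hV : Inv G A V) (hVp : IsPGroup p V)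
    (hs : Sparse A V) :
    G ⊓ normalizer (V : Set Γ) ≤ centralizer (V : Set Γ) ⊔ (P ⊓ normalizer (V : Set Γ)) := by
  refine h.le_of_fixed_le (h.inv_normalizer hV) fun e he he1 x hx => ?_
  obtain ⟨d, hd, hde, hbot⟩ := hs e he he1
  set X := (G ⊓ normalizer (V : Set Γ)) ⊓ centralizer {e} with hXdef
  have hXinv : Inv G A X := h.inv_fixed (h.inv_normalizer hV) he
  have hcomm : ∀ a ∈ X, ∀ b ∈ X, a * b = b * a := fun a ha b hb =>
    h.comm e he he1 a ⟨ha.1.1, ha.2⟩ b ⟨hb.1.1, hb.2⟩
  set k := (Nat.card X).factorization p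
  set m := ordCompl[p] (Nat.card X)
  have hpm : (p ^ k).Coprime m :=
    (Nat.coprime_ordCompl Fact.out Nat.card_pos.ne').pow_left k
  have hN : tors X hcomm m ≤ centralizer (V : Set Γ) := by
    refine h.centralizes_of_bot hV (inv_tors hXinv hcomm m)
      ((tors_le hcomm m).trans (inf_le_left.trans inf_le_right)) hVp.isNilpotent ?_ he he1 hd hde
      ((tors_le hcomm m).trans inf_le_right) hbot
    obtain ⟨i, hi⟩ := IsPGroup.iff_card.mp hVp
    rw [hi]
    refine Nat.Coprime.pow_right i (((Fact.out : p.Prime).coprime_iff_not_dvd.mpr fun hd' => ?_).symm)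
    obtain ⟨y, hy⟩ := exists_prime_orderOf_dvd_card' p hd'
    have h1 : orderOf (y : Γ) ∣ m := orderOf_dvd_of_pow_eq_one y.2.2
    rw [Subgroup.orderOf_coe, hy] at h1
    exact Nat.not_dvd_ordCompl Fact.out Nat.card_pos.ne' h1
  have hS : tors X hcomm (p ^ k) ≤ P ⊓ normalizer (V : Set Γ) := by
    refine le_inf (hP.ge _ (inv_tors hXinv hcomm _) fun y => ⟨k, Subtype.ext ?_⟩)
      ((tors_le hcomm _).trans (inf_le_left.trans inf_le_right))
    simpa using y.2.2
  have hxn : x ^ (p ^ k * m) = 1 := by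
    have : p ^ k * m = Nat.card X := Nat.ordProj_mul_ordCompl_eq_self _ p
    rw [this]
    exact orderOf_dvd_iff_pow_eq_one.mp (Subgroup.orderOf_dvd_natCard X hx)
  obtain ⟨a, b, hab⟩ : IsCoprime ((p ^ k : ℕ) : ℤ) (m : ℤ) := Nat.isCoprime_iff_coprime.mpr hpm
  have h1 : x ^ p ^ k ∈ centralizer (V : Set Γ) :=
    hN ⟨pow_mem hx _, by rw [← pow_mul, hxn]⟩
  have h2 : x ^ m ∈ P ⊓ normalizer (V : Set Γ) :=
    hS ⟨pow_mem hx _, by rw [← pow_mul, mul_comm, hxn]⟩
  have key : x = (x ^ p ^ k) ^ a * (x ^ m) ^ b := by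
    rw [← zpow_natCast x (p ^ k), ← zpow_natCast x m, ← zpow_mul, ← zpow_mul, ← zpow_add,
      mul_comm _ a, mul_comm _ b, hab, zpow_one]
  rw [key]
  exact mul_mem (zpow_mem (mem_sup_left h1) a) (zpow_mem (mem_sup_right h2) b)

/-- No Sylow subgroup is fixed by a non-trivial element of `A`. -/
theorem Min.not_one_line (hP1 : P ≠ ⊥) {b : Γ} (hb : b ∈ A) (hb1 : b ≠ 1)
    (hPb : P ≤ centralizer {b}) : False := by
  haveI := h.normal
  have hsparse : Sparse A P := by
    intro e he he1
    obtain ⟨d, hd, -, hdb, hde⟩ := h.exists_not_mem_two hb he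
    refine ⟨d, hd, hde, ?_⟩
    have := h.inf_fixed_eq_bot hP.inv.1 hb hb1 hd hdb
    rwa [inf_eq_left.mpr hPb] at this
  have hPC : P ≤ centralizer (P : Set Γ) := fun x hx => mem_centralizer_iff.mpr fun y hy =>
    h.comm b hb hb1 y ⟨hP.inv.1 hy, hPb hy⟩ x ⟨hP.inv.1 hx, hPb hx⟩
  have hN : G ⊓ normalizer (P : Set Γ) ≤ centralizer (P : Set Γ) :=
    (h.normalizer_le hP hP.inv hP.isP hsparse).trans (sup_le le_rfl (inf_le_left.trans hPC))
  let S : Sylow p G :=
    (hP.isP.of_equiv (subgroupOfEquivOfLe hP.inv.1).symm).toSylow hP.index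
  have hSN : normalizer ((S : Subgroup G) : Set G) ≤ centralizer ((S : Subgroup G) : Set G) := by
    intro g hg
    have hgN : (g : Γ) ∈ normalizer (P : Set Γ) := mem_normalizer_iff.mpr fun y => by
      constructor
      · intro hy
        exact (mem_normalizer_iff.mp hg ⟨y, hP.inv.1 hy⟩).mp hy
      · intro hy
        have hyG : y ∈ G := by
          have := G.mul_mem (G.mul_mem (G.inv_mem g.2) (hP.inv.1 hy)) g.2
          simpa [mul_assoc] using this
        exact (mem_normalizer_iff.mp hg ⟨y, hyG⟩).mpr hy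
    rw [mem_centralizer_iff]
    intro y hy
    exact Subtype.ext (mem_centralizer_iff.mp (hN ⟨g.2, hgN⟩) (y : Γ) hy)
  refine h.no_complement (r := p) ?_ ⟨S, _, MonoidHom.normal_ker _,
    MonoidHom.ker_transferSylow_isComplement' S hSN⟩
  haveI : Nontrivial P := (nontrivial_iff_ne_bot P).mpr hP1
  obtain ⟨i, hi, hic⟩ := hP.isP.nontrivial_iff_card.mp inferInstance
  exact (hic ▸ dvd_pow_self p hi.ne').trans (card_dvd_of_le hP.inv.1)

/-- A proper overgroup of a sparse Sylow subgroup has a normal `p`-complement. -/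
theorem Min.complement_of_le {X : Subgroup Γ} (hX : Inv G A X) (hsol : Group.IsSolvable X)
    (hPX : P ≤ X) (hs : Sparse A P) : Cfsg.HasNormalPComplement p X := by
  haveI := hsol
  haveI := OddOrder.BenderLocal.pPrimePCore_characteristic (K := X) p
  have hcons := PSolvable.isPConstrained_of_isPSolvable (p := p) (G := X)
    PSolvable.isPSolvable_of_isSolvable
  set O := Cfsg.pPrimeCore p X with hO
  set L := Cfsg.pPrimePCore p X with hL
  set LΓ := L.map X.subtype
  have hLinv : Inv G A LΓ := hX.map_char L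
  set V := P ⊓ LΓ with hVdef
  have hVinv : Inv G A V := hP.inv.inf hLinv.2
  -- `V` as a Sylow subgroup of `L`
  have hcard : Nat.card ((P.subgroupOf X).subgroupOf L) = p ^ (Nat.card L).factorization p := by
    rw [← card_map_of_injective L.subtype_injective, subgroupOf_map_subtype,
      ← card_map_of_injective X.subtype_injective,
      map_inf _ _ _ X.subtype_injective, subgroupOf_map_subtype, inf_eq_left.mpr hPX,
      h.card_inf hP hLinv, card_map_of_injective X.subtype_injective]
  let T : Sylow p L := Sylow.ofCard _ hcard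
  have hT : (T : Subgroup L).map L.subtype = P.subgroupOf X ⊓ L := subgroupOf_map_subtype _ _
  have hTΓ : ((T : Subgroup L).map L.subtype).map X.subtype = V := by
    rw [hT, map_inf _ _ _ X.subtype_injective, subgroupOf_map_subtype, inf_eq_left.mpr hPX]
  have hC := hcons T
  -- Frattini
  have hgen : (⊤ : Subgroup X) ≤ L ⊔ P.subgroupOf X := by
    rw [← Sylow.normalizer_sup_eq_top T]
    refine sup_le (fun g hg => ?_) le_sup_left
    have hgV : (g : Γ) ∈ G ⊓ normalizer (V : Set Γ) := by
      refine ⟨hX.1 g.2, ?_⟩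
      rw [← hTΓ]
      exact le_normalizer_map X.subtype (mem_map_of_mem _ hg)
    have hnorm : P ⊓ normalizer (V : Set Γ) ≤ normalizer ((centralizer (V : Set Γ) : Subgroup Γ) :
        Set Γ) := fun y hy => (le_normalizer_centralizer (A := normalizer (V : Set Γ)) le_rfl) hy.2
    have hmem := h.normalizer_le hP hVinv (hP.isP.to_le inf_le_left)
      (hs.mono inf_le_left) hgV
    rw [sup_comm] at hmem
    obtain ⟨y, hy, c, hc, hyc⟩ := Coprime.exists_mul_of_mem_sup hnorm hmem
    have hcX : c ∈ X := by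
      have := X.mul_mem (X.inv_mem (hPX hy.1)) g.2
      rwa [hyc, inv_mul_cancel_left] at this
    have hcL : (⟨c, hcX⟩ : X) ∈ L := hC (by
      rw [mem_centralizer_iff]
      intro v hv
      apply Subtype.ext
      exact mem_centralizer_iff.mp hc (v : Γ) (hTΓ ▸ mem_map_of_mem _ hv))
    have : g = (⟨y, hPX hy.1⟩ : X) * ⟨c, hcX⟩ := Subtype.ext hyc
    rw [this]
    exact mul_mem (mem_sup_right (show (⟨y, hPX hy.1⟩ : X) ∈ P.subgroupOf X from hy.1))
      (mem_sup_left hcL)
  have hLO : L ≤ O ⊔ P.subgroupOf X := by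
    have e := PSolvable.map_sylow_pPrimePCore T
    have : L = (((T : Subgroup L).map L.subtype).map (QuotientGroup.mk' O)).comap
        (QuotientGroup.mk' O) := by
      rw [e]; rfl
    rw [this, comap_map_eq, QuotientGroup.ker_mk', hT]
    exact sup_le (inf_le_left.trans le_sup_right) le_sup_left
  have htop : O ⊔ P.subgroupOf X = ⊤ :=
    eq_top_iff.mpr (hgen.trans (sup_le hLO le_sup_right))
  refine Transfer.PResidual.hasNormalPComplement_of_normal (N := O)
    (Cores.not_dvd_card_pPrimeCore p) ?_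
  have hmap : (P.subgroupOf X).map (QuotientGroup.mk' O) = ⊤ := by
    rw [← map_top_of_surjective _ (QuotientGroup.mk'_surjective O), ← htop, Subgroup.map_sup]
    simp
  exact ((hP.isP.of_equiv (subgroupOfEquivOfLe hPX).symm).map (QuotientGroup.mk' O)).of_equiv
    ((MulEquiv.subgroupCongr hmap).trans topEquiv)

/-- For odd `p` all lines but one at most meet `P`. -/
theorem Min.exists_lines (hp2 : p ≠ 2) (hP1 : P ≠ ⊥) :
    ∃ c ∈ A, c ≠ 1 ∧ ∀ d ∈ A, d ∉ zpowers c → P ⊓ centralizer {d} ≠ ⊥ := by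
  by_contra hall
  push Not at hall
  have hs : Sparse A P := fun e he he1 => hall e he he1
  set J := Cfsg.thompsonSubgroupOf p P with hJ
  set Z := P ⊓ centralizer (P : Set Γ) with hZ
  have hJ1 : J ≠ ⊥ := Frobenius.PComplement.thompsonSubgroupOf_ne_bot hP.isP hP1
  have hZ1 : Z ≠ ⊥ := Frobenius.PComplement.inf_centralizer_ne_bot hP.isP hP1
  have hJP : J ≤ P := map_subtype_le _
  have hJinv : Inv G A J := ⟨hJP.trans hP.inv.1,
    hP.inv.2.trans (PGroups.normalizer_le_normalizer_thompson _)⟩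
  have hZinv : Inv G A Z := hP.inv.inf (le_normalizer_centralizer hP.inv.2)
  have hJsol := h.solvable_normalizer hJinv hJ1
    (Coprime.isSolvable_of_isPGroup (hP.isP.to_le hJP))
  have hZsol := h.solvable_centralizer hZinv hZ1
    (Coprime.isSolvable_of_isPGroup (hP.isP.to_le inf_le_left))
  let S : Sylow p G :=
    (hP.isP.of_equiv (subgroupOfEquivOfLe hP.inv.1).symm).toSylow hP.index
  have hSP : (S : Subgroup G).map G.subtype = P := map_subgroupOf_eq_of_le hP.inv.1
  have hmk : ∀ (K : Subgroup G) (X : Subgroup Γ), Inv G A X → Group.IsSolvable X → P ≤ X →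
      K.map G.subtype ≤ X → Cfsg.HasNormalPComplement p K := fun K X hX hsol hPX hle =>
    Frobenius.PComplement.hnpc_of_map_le G.subtype G.subtype_injective hle
      (h.complement_of_le hP hX hsol hPX hs)
  haveI : Nontrivial P := (nontrivial_iff_ne_bot P).mpr hP1
  refine h.no_complement (r := p) ?_
    (Frobenius.PComplement.hasNormalPComplement_of_thompson hp2 S ⟨?_, ?_⟩)
  · obtain ⟨i, hi, hic⟩ := hP.isP.nontrivial_iff_card.mp inferInstance
    exact (hic ▸ dvd_pow_self p hi.ne').trans (card_dvd_of_le hP.inv.1)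
  · refine hmk _ _ (h.inv_normalizer hJinv) hJsol (le_inf hP.inv.1
      (le_normalizer.trans (PGroups.normalizer_le_normalizer_thompson _)))
      (le_inf (map_subtype_le _) ?_)
    refine (le_normalizer_map G.subtype).trans (le_of_eq ?_)
    rw [PGroups.map_thompsonSubgroupOf G.subtype G.subtype_injective, hSP]
  · refine hmk _ _ (h.inv_centralizer hZinv) hZsol (le_inf hP.inv.1 fun x hx => ?_)
      (le_inf (map_subtype_le _) ?_)
    · exact mem_centralizer_iff.mpr fun z hz => (mem_centralizer_iff.mp hz.2 x hx).symm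
    · rintro _ ⟨g, hg, rfl⟩
      rw [mem_centralizer_iff]
      intro z hz
      refine congrArg Subtype.val (mem_centralizer_iff.mp hg ⟨z, hP.inv.1 hz.1⟩ ⟨hz.1, ?_⟩)
      show (⟨z, _⟩ : G) ∈ centralizer ((S : Subgroup G) : Set G)
      exact mem_centralizer_iff.mpr fun w hw =>
        Subtype.ext (mem_centralizer_iff.mp hz.2 (w : Γ) hw)

end Cfsg.Agent.Lib.LAEven57.AbelianCent
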