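import Mathlib
import Cfsg.Agent.Lib.LAEven57.AbelianCent.Operators
import Cfsg.Agent.Lib.LAEven57.AbelianCent.Tools
import Cfsg.Agent.Lib.Cores.Basic

/-!
# The linear core

A solvable group `Y` of automorphisms of an abelian `p`-group with `O_p(Y) = 1`, normalised by
`A ≅ C_q × C_q` with abelian centralisers fixing the fixed points and with `C_Y(A) = 1`, has order
prime to `p`.
-/

set_option autoImplicit false
set_option linter.style.haveILetI false
set_option maxHeartbeats 400000
set_option linter.unusedSectionVars false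

namespace Cfsg.Agent.Lib.LAEven57.AbelianCent.LinearCore

open Subgroup Tools
open scoped commutatorElement
open FpfHeight.Basic (toEnd frob_op eq_zero_of_coprime_natCast_mul toEnd_apply)

variable {W : Type*} [CommGroup W] {A : Type*} [Group A] {p q : ℕ}

/-- The hypotheses. -/
structure Hyp (p q : ℕ) (α : A →* MulAut W) (Y : Subgroup (MulAut W)) : Prop where
  hW : IsPGroup p W
  hqp : q ≠ p
  hA : Nat.card A = q ^ 2
  hAq : ∀ a : A, a ^ q = 1
  hAc : ∀ a b : A, a * b = b * a
  norm : ∀ a : A, α a ∈ normalizer (Y : Set (MulAut W))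
  hqY : q.Coprime (Nat.card Y)
  comm : ∀ a : A, a ≠ 1 → ∀ x ∈ Y ⊓ centralizer {α a}, ∀ y ∈ Y ⊓ centralizer {α a}, x * y = y * x
  fix : ∀ a : A, a ≠ 1 → ∀ y ∈ Y ⊓ centralizer {α a}, ∀ w : W, α a w = w → y w = w
  fpf : ∀ y ∈ Y, (∀ a : A, α a * y = y * α a) → y = 1

variable {α : A →* MulAut W} {Y : Subgroup (MulAut W)} [Finite W] [Finite A] [Fact p.Prime]
  [Fact q.Prime]

theorem eq_one_of_commute (h : Hyp p q α Y) {a d : A} (ha : a ≠ 1) (hd : d ∉ zpowers a)
    {y : MulAut W} (hy : y ∈ Y) (h1 : α a * y = y * α a) (h2 : α d * y = y * α d) : y = 1 := by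
  have hm : ∀ b : A, b ∈ (centralizer ({y} : Set (MulAut W))).comap α ↔ α b * y = y * α b := by
    intro b
    rw [mem_comap, mem_centralizer_singleton_iff]
  have ht := eq_top_of_mem (Fact.out : q.Prime) h.hA h.hAq ha hd
    ((hm a).mpr h1) ((hm d).mpr h2)
  exact h.fpf y hy fun b => (hm b).mp (ht ▸ mem_top b)

theorem coprime_card_W (h : Hyp p q α Y) {m : ℕ} (hm : ¬ p ∣ m) : m.Coprime (Nat.card W) := by
  obtain ⟨k, hk⟩ := IsPGroup.iff_card.mp h.hW
  rw [hk]
  exact (((Fact.out : p.Prime).coprime_iff_not_dvd.mpr hm).symm).pow_right k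

/-- The Fitting subgroup of `Y`, as a subgroup of the automorphism group. -/
abbrev fitY (Y : Subgroup (MulAut W)) : Subgroup (MulAut W) :=
  (Cfsg.fittingSubgroup Y).map Y.subtype

theorem fitY_le : fitY Y ≤ Y := map_subtype_le _

theorem le_normalizer_fitY : normalizer (Y : Set (MulAut W)) ≤
    normalizer ((fitY Y : Subgroup (MulAut W)) : Set (MulAut W)) :=
  normalizer_le_map_char _

theorem not_dvd_fitY (hOp : Cfsg.pCore p Y = ⊥) : ¬ p ∣ Nat.card (fitY Y) := by
  rw [card_subtype]
  intro hdvd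
  haveI := Cores.fittingSubgroup_isNilpotent (G := Y)
  obtain ⟨S⟩ : Nonempty (Sylow p (Cfsg.fittingSubgroup Y)) := inferInstance
  have hSn : (S : Subgroup (Cfsg.fittingSubgroup Y)).Normal :=
    S.normal_of_normalizerCondition Group.normalizerCondition_of_isNilpotent
  haveI := Sylow.characteristic_of_normal S hSn
  haveI := Cores.normal_map_subtype (Cfsg.fittingSubgroup Y) (S : Subgroup (Cfsg.fittingSubgroup Y))
  have h1 := Cores.le_pCore (p := p) (N := (S : Subgroup (Cfsg.fittingSubgroup Y)).map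
    (Cfsg.fittingSubgroup Y).subtype) (S.2.map _)
  rw [hOp, le_bot_iff, map_eq_bot_iff_of_injective _ (subtype_injective _)] at h1
  exact S.ne_bot_of_dvd_card hdvd h1

theorem commute_of_forall (h : Hyp p q α Y) {X : Subgroup (MulAut W)} (hXY : X ≤ Y)
    (hX : ∀ a, α a ∈ normalizer (X : Set (MulAut W))) {y : MulAut W}
    (hy : ∀ a : A, a ≠ 1 → ∀ x ∈ X ⊓ centralizer {α a}, x * y = y * x) :
    ∀ x ∈ X, x * y = y * x := by
  have hle : X ≤ centralizer {y} := le_of_centralizers_le (Fact.out : q.Prime) h.hA h.hAq h.hAc α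
    hX (h.hqY.coprime_dvd_right (card_dvd_of_le hXY))
    fun a ha x hx => mem_centralizer_singleton_iff.mpr (hy a ha x hx)
  exact fun x hx => mem_centralizer_singleton_iff.mp (hle hx)

theorem fixed_sum (h : Hyp p q α Y) (a : A) (ha : a ≠ 1) {y : MulAut W}
    (hy : y ∈ Y ⊓ centralizer {α a}) :
    toEnd y * ∑ i ∈ Finset.range q, toEnd (α a ^ i) = ∑ i ∈ Finset.range q, toEnd (α a ^ i) := by
  have haq : α a ^ q = 1 := by rw [← map_pow, h.hAq, map_one]
  refine AddMonoidHom.ext fun w => ?_
  apply Additive.toMul.injective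
  exact h.fix a ha y hy _ (FpfHeight.Generation.apply_sum_pow (α a) haq w)

/-- The Fitting subgroup is abelian. -/
theorem fitY_comm (h : Hyp p q α Y) (hOp : Cfsg.pCore p Y = ⊥) :
    ⁅fitY Y, fitY Y⁆ = ⊥ := by
  classical
  set F := fitY Y with hF
  have hFY : F ≤ Y := fitY_le
  have hFn : ∀ a, α a ∈ normalizer (F : Set (MulAut W)) :=
    fun a => le_normalizer_fitY (h.norm a)
  have hqF : q.Coprime (Nat.card F) := h.hqY.coprime_dvd_right (card_dvd_of_le hFY)
  have hpF := not_dvd_fitY (p := p) hOp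
  set Z := F ⊓ centralizer (F : Set (MulAut W)) with hZ
  have hnZ : normalizer (F : Set (MulAut W)) ≤ normalizer (Z : Set (MulAut W)) := by
    refine le_normalizer_iff.mpr ?_
    intro g hg z hz
    refine ⟨(mem_normalizer_iff.mp hg z).mp hz.1, ?_⟩
    show g * z * g⁻¹ ∈ centralizer (F : Set (MulAut W))
    rw [mem_centralizer_iff]
    intro x hx
    have hx' : g⁻¹ * x * g ∈ F := (mem_normalizer_iff''.mp hg x).mp hx
    have hc := mem_centralizer_iff.mp hz.2 _ hx'
    calc x * (g * z * g⁻¹) = g * ((g⁻¹ * x * g) * z) * g⁻¹ := by group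
      _ = g * (z * (g⁻¹ * x * g)) * g⁻¹ := by rw [hc]
      _ = g * z * g⁻¹ * x := by group
  -- products of operators on different lines vanish
  have hzero : ∀ a d : A, a ≠ 1 → d ∉ zpowers a → ∀ m ∈ F ⊓ centralizer {α a},
      ∀ z ∈ Z ⊓ centralizer {α d}, (toEnd m - 1) * (toEnd z - 1) = 0 := by
    intro a d ha hd m hm z hz
    set Q := Z ⊓ centralizer {α d}
    have hQcard : ¬ p ∣ Nat.card Q :=
      fun hd' => hpF (hd'.trans (card_dvd_of_le (inf_le_left.trans inf_le_left)))
    have hop := frob_op (toEnd (V := W)) Q (α a) (Fact.out : q.Prime).pos (n := q)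
      (fun x hx => ⟨(mem_normalizer_iff.mp (hnZ (hFn a)) x).mp hx.1,
        mem_centralizer_singleton_iff.mpr (by
          have h1 : α a * α d = α d * α a := by rw [← map_mul, ← map_mul, h.hAc]
          have h2 : Commute x (α d) := mem_centralizer_singleton_iff.mp hx.2
          exact ((Commute.mul_left h1 h2).mul_left (Commute.inv_left h1)).eq)⟩)
      (fun i hi hiq x hx hfx => by
        have hc : Commute (α a ^ i) x := mul_inv_eq_iff_eq_mul.mp hfx
        have haq : α a ^ q = 1 := by rw [← map_pow, h.hAq, map_one]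
        have hc' := FpfHeight.Generation.commute_of_pow_commute Fact.out haq
          (Nat.not_dvd_of_pos_of_lt hi hiq) hc
        exact eq_one_of_commute h ha hd (hFY hx.1.1) hc'.eq
          (mem_centralizer_singleton_iff.mp hx.2).symm)
      (toEnd m - 1) (fun x hx => Commute.sub_left
        ((show Commute m x from mem_centralizer_iff.mp hx.1.2 m hm.1).map toEnd) (Commute.one_left _))
      (by rw [sub_mul, one_mul, fixed_sum h a ha ⟨hFY hm.1, hm.2⟩, sub_self])
    exact eq_zero_of_coprime_natCast_mul (coprime_card_W h hQcard) (hop z hz)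
  -- every component of `F' ∩ Z(F)` is trivial
  suffices hk : ∀ d : A, d ≠ 1 → ∀ z ∈ (⁅F, F⁆ ⊓ Z) ⊓ centralizer {α d}, z = 1 by
    have hle : ⁅F, F⁆ ⊓ Z ≤ ⊥ := by
      refine le_of_centralizers_le (Fact.out : q.Prime) h.hA h.hAq h.hAc α ?_
        (hqF.coprime_dvd_right (card_dvd_of_le (inf_le_right.trans inf_le_left))) ?_
      · intro a
        refine mem_normalizer_iff.mpr fun x => ?_
        have h1 : α a ∈ normalizer ((⁅F, F⁆ : Subgroup (MulAut W)) : Set (MulAut W)) := by
          apply Coprime.mem_normalizer_of_conj_smul_eq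
          rw [Coprime.conj_smul_eq_map, map_commutator, ← Coprime.conj_smul_eq_map,
            Coprime.conj_smul_eq_self_of_mem_normalizer (hFn a)]
        exact and_congr (mem_normalizer_iff.mp h1 x) (mem_normalizer_iff.mp (hnZ (hFn a)) x)
      · exact fun d hd z hz => mem_bot.mpr (hk d hd z hz)
    haveI : Group.IsNilpotent F :=
      haveI := Cores.fittingSubgroup_isNilpotent (G := Y)
      Group.nilpotent_of_mulEquiv
        ((Cfsg.fittingSubgroup Y).equivMapOfInjective _ Y.subtype_injective)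
    have hbot : commutator F = ⊥ := by
      refine eq_bot_of_inf_center ?_
      rw [Subgroup.eq_bot_iff_forall]
      intro x hx
      have h1 : (x : MulAut W) ∈ ⁅F, F⁆ ⊓ Z := by
        refine ⟨map_subtype_commutator F ▸ mem_map_of_mem _ hx.1, x.2, ?_⟩
        show (x : MulAut W) ∈ centralizer (F : Set (MulAut W))
        rw [mem_centralizer_iff]
        intro y hy
        exact congrArg Subtype.val (mem_center_iff.mp hx.2 ⟨y, hy⟩)
      exact Subtype.ext (mem_bot.mp (hle h1))
    rw [← map_subtype_commutator, hbot, Subgroup.map_bot]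
  intro d hd z hz
  -- the subgroup acting trivially on `[W, Z_d]`
  let K : Subgroup (MulAut W) :=
    { carrier := {m | ∀ x ∈ Z ⊓ centralizer {α d}, toEnd m * (toEnd x - 1) = toEnd x - 1}
      one_mem' := fun x _ => by rw [map_one, one_mul]
      mul_mem' := fun {m n} hm hn x hx => by rw [map_mul, mul_assoc, hn x hx, hm x hx]
      inv_mem' := fun {m} hm x hx => by
        conv_lhs => rw [← hm x hx]
        rw [← mul_assoc, ← map_mul, inv_mul_cancel, map_one, one_mul] }
  have hcov : F ≤ (K ⊓ F) ⊔ (F ⊓ centralizer {α d}) := by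
    refine le_of_centralizers_le (Fact.out : q.Prime) h.hA h.hAq h.hAc α hFn hqF ?_
    intro a ha m hm
    by_cases had : d ∈ zpowers a
    · refine mem_sup_right ⟨hm.1, mem_centralizer_singleton_iff.mpr ?_⟩
      obtain ⟨k, rfl⟩ := had
      rw [map_zpow]
      exact ((show Commute m (α a) from mem_centralizer_singleton_iff.mp hm.2).zpow_right k).eq
    · refine mem_sup_left ⟨fun x hx => ?_, hm.1⟩
      have := hzero a d ha had m hm x hx
      rwa [sub_mul, one_mul, sub_eq_zero] at this
  haveI hKn : ((K ⊓ F).subgroupOf F).Normal := by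
    rw [normal_subgroupOf_iff_le_normalizer inf_le_right, le_normalizer_iff]
    intro g hg m hm
    refine ⟨fun x hx => ?_, F.mul_mem (F.mul_mem hg hm.2) (F.inv_mem hg)⟩
    have hgx : Commute g x := mem_centralizer_iff.mp hx.1.2 g hg
    have hE : toEnd (V := W) g⁻¹ * (toEnd x - 1) = (toEnd x - 1) * toEnd g⁻¹ :=
      Commute.sub_right (hgx.inv_left.map toEnd) (Commute.one_right _)
    rw [map_mul, map_mul, mul_assoc, mul_assoc, hE, ← mul_assoc (toEnd m), hm.1 x hx, ← hE,
      ← mul_assoc, ← map_mul, mul_inv_cancel, map_one, one_mul]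
  have hcomm : ⁅F, F⁆ ≤ K := by
    rw [commutator_le]
    intro g hg g' hg'
    set π := QuotientGroup.mk' ((K ⊓ F).subgroupOf F) with hπ
    have hsurj : ∀ u : F, ∃ c : F, (c : MulAut W) ∈ centralizer {α d} ∧ π c = π u := by
      intro u
      obtain ⟨k, hk, c, hc, hkc⟩ : ∃ k ∈ K ⊓ F, ∃ c ∈ F ⊓ centralizer {α d}, k * c = (u : MulAut W) := by
        have hmem : (u : MulAut W) ∈ (K ⊓ F) ⊔ (F ⊓ centralizer {α d}) := hcov u.2
        rw [sup_comm] at hmem
        obtain ⟨c, hc, k, hk, hck⟩ := Coprime.exists_mul_of_mem_sup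
          (inf_le_left.trans ((normal_subgroupOf_iff_le_normalizer inf_le_right).mp hKn)) hmem
        refine ⟨c * k * c⁻¹, ?_, c, hc, by rw [← hck]; group⟩
        exact (mem_normalizer_iff.mp
          ((normal_subgroupOf_iff_le_normalizer inf_le_right).mp hKn hc.1) k).mp hk
      refine ⟨⟨c, hc.1⟩, hc.2, ?_⟩
      have : u = ⟨k, hk.2⟩ * (⟨c, hc.1⟩ : F) := Subtype.ext hkc.symm
      rw [this, map_mul]
      have : π ⟨k, hk.2⟩ = 1 := (QuotientGroup.eq_one_iff _).mpr (mem_subgroupOf.mpr hk)
      rw [this, one_mul]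
    obtain ⟨c, hc, hcπ⟩ := hsurj ⟨g, hg⟩
    obtain ⟨c', hc', hcπ'⟩ := hsurj ⟨g', hg'⟩
    have hcc : c * c' = c' * c :=
      Subtype.ext (h.comm d hd _ ⟨hFY c.2, hc⟩ _ ⟨hFY c'.2, hc'⟩)
    have h1 : π ⁅(⟨g, hg⟩ : F), ⟨g', hg'⟩⁆ = 1 := by
      rw [map_commutatorElement, ← hcπ, ← hcπ', ← map_commutatorElement,
        commutatorElement_eq_one_iff_mul_comm.mpr hcc, map_one]
    exact (mem_subgroupOf.mp ((QuotientGroup.eq_one_iff _).mp h1)).1
  have hzK := hcomm hz.1.1 z ⟨hz.1.2, hz.2⟩
  have hsq : (toEnd z - 1) * (toEnd z - 1) = 0 := by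
    rw [sub_mul, one_mul, hzK, sub_self]
  have hpow : ∀ n : ℕ, toEnd (V := W) (z ^ n) - 1 = (n : AddMonoid.End (Additive W)) * (toEnd z - 1) := by
    intro n
    induction n with
    | zero => simp
    | succ n ih =>
      have : toEnd (V := W) (z ^ (n + 1)) - 1 =
          (toEnd (z ^ n) - 1) * (toEnd z - 1) + (toEnd (z ^ n) - 1) + (toEnd z - 1) := by
        rw [pow_succ, map_mul, sub_mul, mul_sub, mul_one, one_mul]; abel
      rw [this, ih, mul_assoc, hsq, mul_zero, zero_add, Nat.cast_succ, add_mul, one_mul]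
  have hord : ¬ p ∣ orderOf z := fun hd' => hpF (hd'.trans (orderOf_dvd_natCard F hz.1.2.1))
  have h0 := eq_zero_of_coprime_natCast_mul (f := toEnd z - 1) (coprime_card_W h hord)
    (by rw [← hpow, pow_orderOf_eq_one, map_one, sub_self])
  refine MulEquiv.ext fun w => ?_
  have := DFunLike.congr_fun (sub_eq_zero.mp h0) (Additive.ofMul w)
  simpa [toEnd_apply] using this

/-- **The linear core.** -/
theorem main (h : Hyp p q α Y) [Group.IsSolvable Y] (hOp : Cfsg.pCore p Y = ⊥) :
    ¬ p ∣ Nat.card Y := by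
  classical
  set F := fitY Y with hF
  have hFY : F ≤ Y := fitY_le
  have hFn : ∀ a, α a ∈ normalizer (F : Set (MulAut W)) :=
    fun a => le_normalizer_fitY (h.norm a)
  have hpF := not_dvd_fitY (p := p) hOp
  haveI hFc : IsMulCommutative F := by
    have := fitY_comm h hOp
    rw [commutator_eq_bot_iff_le_centralizer] at this
    exact ⟨⟨fun x y => Subtype.ext (mem_centralizer_iff.mp (this y.2) x x.2)⟩⟩
  -- `p`-elements of the centralisers are trivial
  have key : ∀ a : A, a ≠ 1 → ∀ y ∈ Y ⊓ centralizer {α a}, y ^ p = 1 → y = 1 := by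
    intro a ha y hy hyp
    have hyn : y ∈ normalizer (F : Set (MulAut W)) := le_normalizer_fitY (le_normalizer hy.1)
    have hyle : zpowers y ≤ normalizer (F : Set (MulAut W)) := zpowers_le.mpr hyn
    have hcop : (Nat.card (zpowers y)).Coprime (Nat.card F) := by
      rw [Nat.card_zpowers]
      exact ((Fact.out : p.Prime).coprime_iff_not_dvd.mpr hpF).coprime_dvd_left
        (orderOf_dvd_of_pow_eq_one hyp)
    set Q := ⁅F, zpowers y⁆ with hQ
    have hQF : Q ≤ F := Coprime.commutator_le_of_le_normalizer hyle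
    have hdis := Coprime.centralizer_inf_commutator_eq_bot hyle hcop
    have hay : Commute (α a) y := (mem_centralizer_singleton_iff.mp hy.2).symm
    have haQ : α a ∈ normalizer (Q : Set (MulAut W)) := by
      apply Coprime.mem_normalizer_of_conj_smul_eq
      rw [Coprime.conj_smul_eq_map, hQ, map_commutator, ← Coprime.conj_smul_eq_map,
        ← Coprime.conj_smul_eq_map, Coprime.conj_smul_eq_self_of_mem_normalizer (hFn a),
        Coprime.conj_smul_eq_self_of_mem_normalizer]
      refine le_normalizer_iff.mpr ?_ (mem_zpowers (α a))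
      rintro g ⟨i, rfl⟩ x ⟨j, rfl⟩
      refine ⟨j, ?_⟩
      show y ^ j = α a ^ i * y ^ j * (α a ^ i)⁻¹
      rw [(hay.zpow_zpow i j).eq, mul_inv_cancel_right]
    have hyQ : y ∈ normalizer (Q : Set (MulAut W)) :=
      Coprime.right_le_normalizer_commutator F _ (mem_zpowers y)
    have hfix : ∀ x ∈ Q, y * x = x * y → x = 1 := by
      intro x hx hxy
      have hc : x ∈ centralizer (zpowers y : Set (MulAut W)) := by
        rw [mem_centralizer_iff]
        rintro _ ⟨j, rfl⟩
        exact ((show Commute y x from hxy).zpow_left j).eq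
      have : x ∈ (F ⊓ centralizer (zpowers y : Set (MulAut W))) ⊓ Q := ⟨⟨hQF hx, hc⟩, hx⟩
      rw [hdis, mem_bot] at this
      exact this
    have haq : α a ^ q = 1 := by rw [← map_pow, h.hAq, map_one]
    have hafix : ∀ x ∈ Q, Commute (α a) x → x = 1 := by
      intro x hx hax
      exact hfix x hx (h.comm a ha y hy x
        ⟨hFY (hQF hx), mem_centralizer_singleton_iff.mpr hax.eq.symm⟩)
    have hop := op_eq (toEnd (V := W)) Q (α a) y (Fact.out : q.Prime).pos (n := q)
      (fun x hx => (mem_normalizer_iff.mp haQ x).mp hx)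
      (fun x hx => (mem_normalizer_iff.mp hyQ x).mp hx)
      (fun i hi hiq x hx hfx => hafix x hx (FpfHeight.Generation.commute_of_pow_commute
        Fact.out haq (Nat.not_dvd_of_pos_of_lt hi hiq) (mul_inv_eq_iff_eq_mul.mp hfx)))
      (fun i hiq x hx hfx => by
        have hc : Commute (y * α a ^ i) x := mul_inv_eq_iff_eq_mul.mp hfx
        have hcq : Commute (y ^ q) x := by
          have := hc.pow_left q
          rwa [((hay.pow_left i).symm).mul_pow, ← pow_mul, mul_comm i q, pow_mul, haq, one_pow,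
            mul_one] at this
        have hcy : Commute y x := by
          obtain ⟨u, hu⟩ : ∃ u : ℕ, y = (y ^ q) ^ u := by
            obtain ⟨u, hu⟩ := exists_pow_eq_self_of_coprime (x := y) (n := q)
              (((Nat.coprime_primes Fact.out Fact.out).mpr h.hqp).coprime_dvd_right
                (orderOf_dvd_of_pow_eq_one hyp))
            exact ⟨u, hu.symm⟩
          rw [hu]; exact hcq.pow_left u
        exact hfix x hx hcy.eq)
      (fixed_sum h a ha hy)
    have hQcard : ¬ p ∣ Nat.card Q := fun hd' => hpF (hd'.trans (card_dvd_of_le hQF))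
    have hQbot : Q = ⊥ := by
      rw [Subgroup.eq_bot_iff_forall]
      intro x hx
      have h0 := eq_zero_of_coprime_natCast_mul (coprime_card_W h hQcard) (hop x hx)
      refine MulEquiv.ext fun w => ?_
      have := DFunLike.congr_fun (sub_eq_zero.mp h0) (Additive.ofMul w)
      simpa [toEnd_apply] using this
    rw [hQ, commutator_eq_bot_iff_le_centralizer] at hQbot
    -- `y` centralises the Fitting subgroup
    have hyF : y ∈ F := by
      refine ⟨⟨y, hy.1⟩, ?_, rfl⟩
      refine Cores.centralizer_fittingSubgroup_le ?_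
      rw [mem_centralizer_iff]
      intro x hx
      exact Subtype.ext (mem_centralizer_iff.mp (hQbot (mem_map_of_mem Y.subtype hx)) y
        (mem_zpowers y)).symm
    rcases (Nat.dvd_prime (Fact.out : p.Prime)).mp (orderOf_dvd_of_pow_eq_one hyp) with h1 | h1
    · exact orderOf_eq_one_iff.mp h1
    · exact absurd (h1 ▸ orderOf_dvd_natCard F hyF) hpF
  -- an invariant Sylow subgroup is generated by its centralised parts
  intro hdvd
  haveI : IsMulCommutative α.range := ⟨⟨fun x y => Subtype.ext (by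
    obtain ⟨a, ha⟩ := x.2
    obtain ⟨b, hb⟩ := y.2
    show (x : MulAut W) * y = y * x
    rw [← ha, ← hb, ← map_mul, ← map_mul, h.hAc])⟩⟩
  have hcA : (Nat.card α.range).Coprime (Nat.card Y) := by
    refine Nat.Coprime.coprime_dvd_left ?_ (h.hqY.pow_left 2)
    rw [← h.hA]
    exact card_range_dvd α
  have hAY : α.range ≤ normalizer (Y : Set (MulAut W)) := by
    rintro _ ⟨a, rfl⟩; exact h.norm a
  obtain ⟨S, hS⟩ := Coprime.exists_invariant_sylow hAY hcA
    (Or.inl (Coprime.isSolvable_of_isMulCommutative α.range)) p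
  set P := (S : Subgroup Y).map Y.subtype with hP
  have hPY : P ≤ Y := map_subtype_le _
  have hPbot : P ≤ ⊥ := by
    refine le_of_centralizers_le (X := P) (Fact.out : q.Prime) h.hA h.hAq h.hAc α (fun a => hS (MonoidHom.mem_range.mpr ⟨a, rfl⟩))
      (h.hqY.coprime_dvd_right (card_dvd_of_le hPY)) ?_
    intro a ha x hx
    rw [mem_bot]
    by_contra hx1
    obtain ⟨k, hk⟩ := IsPGroup.iff_orderOf.mp (S.2.map Y.subtype) ⟨x, hx.1⟩
    rw [Subgroup.orderOf_mk] at hk
    have hk0 : k ≠ 0 := fun h0 => hx1 (orderOf_eq_one_iff.mp (by rw [hk, h0, pow_zero]))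
    have hz : x ^ p ^ (k - 1) = 1 := by
      refine key a ha _ (pow_mem (show x ∈ Y ⊓ centralizer {α a} from ⟨hPY hx.1, hx.2⟩) _) ?_
      rw [← pow_mul, ← pow_succ, show k - 1 + 1 = k by omega, ← hk, pow_orderOf_eq_one]
    have := orderOf_dvd_of_pow_eq_one hz
    rw [hk, Nat.pow_dvd_pow_iff_le_right (Fact.out : p.Prime).one_lt] at this
    omega
  have := S.ne_bot_of_dvd_card hdvd
  exact this ((map_eq_bot_iff_of_injective _ Y.subtype_injective).mp (le_bot_iff.mp hPbot))

end Cfsg.Agent.Lib.LAEven57.AbelianCent.LinearCore
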