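import Mathlib
import Cfsg.Agent.Lib.LAEven57.AbelianCent.LinearCore
import Cfsg.Agent.Lib.LAEven57.AbelianCent.Setup
import Cfsg.Agent.Lib.PGroups.Frattini
import Cfsg.Agent.Lib.Transfer.PResidual

/-!
# The structure of an invariant `{p, r}`-subgroup

`inf_centralizer_le_core` : in such a subgroup `X` the `p`-part of `C(O_r(X))` lies in `O_p(X)`.
-/

set_option autoImplicit false
set_option linter.style.haveILetI false
set_option linter.unusedSectionVars false
set_option maxHeartbeats 400000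

namespace Cfsg.Agent.Lib.LAEven57.AbelianCent

open Subgroup

variable {Γ : Type*} [Group Γ] [Finite Γ]

/-- The `p`-elements of a normal subgroup whose `p'`-elements are central lie in `O_p`. -/
theorem mem_core_of_central {p : ℕ} [Fact p.Prime] {C N : Subgroup Γ} (hNC : N ≤ C)
    (hn : C ≤ normalizer (N : Set Γ))
    (hc : ∀ x ∈ N, (orderOf x).Coprime p → ∀ c ∈ C, c * x = x * c)
    {x : Γ} (hx : x ∈ N) {k : ℕ} (hxk : x ^ p ^ k = 1) : x ∈ core p C := by
  have hP : IsPGroup p (N ⧸ center N) := by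
    intro u
    obtain ⟨u, rfl⟩ := QuotientGroup.mk'_surjective (center N) u
    refine ⟨(orderOf u).factorization p, ?_⟩
    rw [← map_pow, QuotientGroup.mk'_apply, QuotientGroup.eq_one_iff, mem_center_iff]
    intro g
    apply Subtype.ext
    refine hc _ (pow_mem u.2 _) ?_ _ (hNC g.2)
    have hu0 : orderOf (u : Γ) ≠ 0 := (orderOf_pos _).ne'
    rw [← Subgroup.orderOf_coe u, orderOf_pow' _ (pow_ne_zero _ (Fact.out : p.Prime).ne_zero),
      Nat.gcd_eq_right (Nat.ordProj_dvd _ _)]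
    exact (Nat.coprime_ordCompl Fact.out hu0).symm
  haveI := hP.isNilpotent
  haveI : Group.IsNilpotent N := Group.of_quotient_center_nilpotent inferInstance
  obtain ⟨S, hS⟩ := IsPGroup.exists_le_sylow (p := p) (P := zpowers (⟨x, hx⟩ : N)) (by
    obtain ⟨i, -, hi⟩ := (Nat.dvd_prime_pow (Fact.out : p.Prime)).mp
      (orderOf_dvd_of_pow_eq_one (x := (⟨x, hx⟩ : N)) (n := p ^ k)
        (Subtype.ext (by simpa using hxk)))
    exact IsPGroup.of_card (n := i) (by rw [Nat.card_zpowers, hi]))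
  have hSn : (S : Subgroup N).Normal :=
    S.normal_of_normalizerCondition Group.normalizerCondition_of_isNilpotent
  haveI := Sylow.characteristic_of_normal S hSn
  exact le_core ((map_subtype_le _).trans hNC) (hn.trans (Tools.normalizer_le_map_char _))
    (S.2.map _) ⟨⟨x, hx⟩, hS (mem_zpowers _), rfl⟩

/-- `O_p` of the image is trivial when the kernel absorbs `O_p` and central `p'`-elements. -/
theorem pCore_range_eq_bot {p : ℕ} [Fact p.Prime] {C : Subgroup Γ} {M : Type*} [Group M]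
    (θ : C →* M) (hcore : ∀ x : C, (x : Γ) ∈ core p C → θ x = 1)
    (hcent : ∀ x : C, θ x = 1 → (orderOf (x : Γ)).Coprime p → ∀ c ∈ C, c * (x : Γ) = x * c) :
    Cfsg.pCore p θ.range = ⊥ := by
  haveI : Finite θ.range := Finite.of_surjective _ θ.rangeRestrict_surjective
  set L := ((Cfsg.pCore p θ.range).comap θ.rangeRestrict).map C.subtype with hL
  have hLn : C ≤ normalizer (L : Set Γ) := by
    refine le_normalizer_iff.mpr ?_
    rintro g hg _ ⟨x, hx, rfl⟩
    exact ⟨⟨g, hg⟩ * x * ⟨g, hg⟩⁻¹,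
      ((inferInstance : (Cfsg.pCore p θ.range).Normal).comap θ.rangeRestrict).conj_mem x hx _, rfl⟩
  have htriv : ∀ z : C, θ.rangeRestrict z ∈ Cfsg.pCore p θ.range →
      (orderOf (z : Γ)).Coprime p → θ z = 1 := by
    intro z hz hzo
    obtain ⟨i, hi⟩ := IsPGroup.iff_orderOf.mp (Cores.pCore_isPGroup (G := θ.range) p) ⟨_, hz⟩
    rw [Subgroup.orderOf_mk] at hi
    have h1 : orderOf (θ.rangeRestrict z) ∣ orderOf (z : Γ) := by
      rw [Subgroup.orderOf_coe]
      exact orderOf_map_dvd _ z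
    rw [hi] at h1
    have h2 : p ^ i = 1 :=
      Nat.eq_one_of_dvd_coprimes ((Nat.coprime_comm.mp hzo).pow_left i) dvd_rfl h1
    rw [h2, orderOf_eq_one_iff] at hi
    exact congrArg Subtype.val hi
  rw [eq_bot_iff]
  intro y hy
  obtain ⟨c, rfl⟩ := θ.rangeRestrict_surjective y
  obtain ⟨u, v, hau, hbu, huv, -, ⟨k, hk⟩, hb⟩ :=
    Transfer.PResidual.exists_pPart_mul_pPrimePart (p := p) c (isOfFinOrder_of_finite c)
  have hvmem : θ.rangeRestrict v ∈ Cfsg.pCore p θ.range := by
    obtain ⟨j, hj⟩ := hbu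
    rw [← hj, map_zpow]
    exact zpow_mem hy j
  have humem : θ.rangeRestrict u ∈ Cfsg.pCore p θ.range := by
    obtain ⟨j, hj⟩ := hau
    rw [← hj, map_zpow]
    exact zpow_mem hy j
  have hv : θ v = 1 := htriv v hvmem (by rwa [Subgroup.orderOf_coe])
  have hu : θ u = 1 := by
    refine hcore u (mem_core_of_central (N := L) (k := k) (map_subtype_le _) hLn ?_
      (mem_map_of_mem C.subtype humem) ?_)
    · rintro _ ⟨z, hz, rfl⟩ hzo g hg
      exact hcent z (htriv z hz hzo) hzo g hg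
    · simpa using congrArg Subtype.val hk
  rw [mem_bot]
  apply Subtype.ext
  show θ c = 1
  rw [← huv, map_mul, hu, hv, one_mul]

/-- The action of `C` on the abelianisation of `U`. -/
noncomputable abbrev actHom {C U : Subgroup Γ} (hCU : C ≤ normalizer (U : Set Γ)) :
    C →* MulAut (Abelianization U) :=
  (abAct U).comp (Subgroup.inclusion hCU)

theorem actHom_conj {A C U : Subgroup Γ} (hCU : C ≤ normalizer (U : Set Γ))
    (hAU : A ≤ normalizer (U : Set Γ)) (a : A) (c : C) (hac : (a : Γ) * c * (a : Γ)⁻¹ ∈ C) :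
    actHom hCU ⟨_, hac⟩ = actHom hAU a * actHom hCU c * (actHom hAU a)⁻¹ := by
  rw [actHom, actHom, MonoidHom.comp_apply, MonoidHom.comp_apply, MonoidHom.comp_apply, ← map_inv,
    ← map_mul, ← map_mul]
  rfl

variable {q p r : ℕ} [Fact p.Prime] [Fact r.Prime] {G A : Subgroup Γ} (h : Min q G A)
include h

/-- Fixed points of the image lift. -/
theorem exists_lift {C U : Subgroup Γ} (hC : Inv G A C) (hCU : C ≤ normalizer (U : Set Γ))
    (hAU : A ≤ normalizer (U : Set Γ)) (B : Subgroup Γ) (hB : B ≤ A) (c : C)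
    (hc : ∀ b (hb : b ∈ B), actHom hAU ⟨b, hB hb⟩ * actHom hCU c =
      actHom hCU c * actHom hAU ⟨b, hB hb⟩) :
    ∃ c' : C, actHom hCU c' = actHom hCU c ∧ (c' : Γ) ∈ centralizer (B : Set Γ) := by
  set K := (actHom hCU).ker.map C.subtype with hK
  have hAC : ∀ (a : A) (c : C), (a : Γ) * c * (a : Γ)⁻¹ ∈ C := fun a c =>
    (mem_normalizer_iff.mp (hC.2 a.2) (c : Γ)).mp c.2
  have key : ∀ g ∈ A, ∀ x ∈ K, g * x * g⁻¹ ∈ K := by
    rintro g hg _ ⟨c, hc, rfl⟩
    refine ⟨⟨_, hAC ⟨g, hg⟩ c⟩, ?_, rfl⟩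
    show actHom hCU _ = 1
    rw [actHom_conj hCU hAU ⟨g, hg⟩ c, MonoidHom.mem_ker.mp hc, mul_one, mul_inv_cancel]
  have hKn : ∀ g ∈ B, g ∈ normalizer (K : Set Γ) := fun g hg =>
    mem_normalizer_iff.mpr fun x => ⟨key g (hB hg) x, fun hx => by
      simpa [mul_assoc] using key g⁻¹ (inv_mem (hB hg)) _ hx⟩
  obtain ⟨n, hn, hfix⟩ := Coprime.exists_fixed_mul (A := B) (N := K) hKn
    ((h.card_A_coprime ((map_subtype_le _).trans hC.1)).coprime_dvd_left (card_dvd_of_le hB))
    (Or.inl (haveI := h.solvable_A; Coprime.isSolvable_of_le hB)) (k := (c : Γ)) (fun b hb => by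
      refine ⟨⟨_, hAC ⟨b, hB hb⟩ c⟩ * c⁻¹, ?_, rfl⟩
      show actHom hCU _ = 1
      rw [map_mul, map_inv, actHom_conj hCU hAU ⟨b, hB hb⟩ c, hc b hb, mul_inv_cancel_right,
        mul_inv_cancel])
  obtain ⟨n, hn', rfl⟩ := hn
  exact ⟨n * c, by rw [map_mul, MonoidHom.mem_ker.mp hn', one_mul], hfix⟩

/-- An element of `X` centralising both cores lies in their join. -/
theorem mem_sup_core {X : Subgroup Γ} (hX : PR G A p r X) {x : Γ} (hx : x ∈ X)
    (h1 : x ∈ centralizer ((core p X : Subgroup Γ) : Set Γ))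
    (h2 : x ∈ centralizer ((core r X : Subgroup Γ) : Set Γ)) : x ∈ core p X ⊔ core r X := by
  haveI := h.solvable_PR hX
  have hF : Cfsg.fittingSubgroup X ≤ Cfsg.pCore p X ⊔ Cfsg.pCore r X := by
    rw [Cores.fittingSubgroup_eq_iSup_pCore]
    refine iSup_le fun s => ?_
    haveI : Fact (s : ℕ).Prime := ⟨s.2⟩
    by_cases hd : (s : ℕ) ∣ Nat.card X
    · rcases hX.2 s s.2 hd with e | e <;> rw [e]
      · exact le_sup_left
      · exact le_sup_right
    · intro y hy
      obtain ⟨i, hi⟩ := IsPGroup.iff_orderOf.mp (Cores.pCore_isPGroup (G := X) (s : ℕ)) ⟨y, hy⟩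
      rw [Subgroup.orderOf_mk] at hi
      rcases Nat.eq_zero_or_pos i with hi0 | hi0
      · rw [hi0, pow_zero, orderOf_eq_one_iff] at hi
        exact hi ▸ one_mem _
      · exact absurd ((dvd_pow_self _ hi0.ne').trans (hi ▸ orderOf_dvd_natCard y)) hd
  rw [core, core, ← Subgroup.map_sup]
  refine ⟨⟨x, hx⟩, hF (Cores.centralizer_fittingSubgroup_le ?_), rfl⟩
  rw [mem_centralizer_iff]
  intro y hy
  apply Subtype.ext
  show (y : Γ) * x = x * y
  have hle : ((Cfsg.fittingSubgroup X).map X.subtype) ≤ centralizer {x} := by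
    refine (Subgroup.map_mono hF).trans ?_
    rw [Subgroup.map_sup]
    exact sup_le (fun z hz => mem_centralizer_singleton_iff.mpr (mem_centralizer_iff.mp h1 z hz))
      (fun z hz => mem_centralizer_singleton_iff.mpr (mem_centralizer_iff.mp h2 z hz))
  exact mem_centralizer_singleton_iff.mp (hle (mem_map_of_mem _ hy))

/-- `p'`-elements acting trivially on `O_p(X)` and centralising `O_r(X)` are central in
`C_X(O_r(X))`. -/
theorem central_of_ker (hpr : p ≠ r) {X : Subgroup Γ} (hX : PR G A p r X)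
    (hCU : X ⊓ centralizer ((core r X : Subgroup Γ) : Set Γ) ≤
      normalizer ((core p X : Subgroup Γ) : Set Γ))
    (x : (X ⊓ centralizer ((core r X : Subgroup Γ) : Set Γ) : Subgroup Γ))
    (hx : actHom hCU x = 1) (hox : (orderOf (x : Γ)).Coprime p) :
    ∀ c ∈ X ⊓ centralizer ((core r X : Subgroup Γ) : Set Γ), c * (x : Γ) = x * c := by
  intro c hc
  have hUp : IsPGroup p (core p X : Subgroup Γ) := isPGroup_core p X
  have hWp : IsPGroup r (core r X : Subgroup Γ) := isPGroup_core r X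
  have hxU : zpowers (x : Γ) ≤ normalizer ((core p X : Subgroup Γ) : Set Γ) := zpowers_le.mpr (hCU x.2)
  have hxcU : zpowers (x : Γ) ≤ centralizer ((core p X : Subgroup Γ) : Set Γ) := by
    refine Coprime.le_centralizer_of_frattini hxU ?_ ?_
    · rw [Nat.card_zpowers]
      obtain ⟨i, hi⟩ := IsPGroup.iff_card.mp (hUp.to_subgroup (frattini (core p X)))
      rw [hi]
      exact hox.pow_right i
    · intro g hg u hu
      refine Subgroup.map_mono (PGroups.commutator_le_frattini hUp) ?_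
      have hg1 : abAct (core p X) ⟨g, hxU hg⟩ = 1 := by
        obtain ⟨j, rfl⟩ := hg
        have e : (⟨(x : Γ) ^ j, hxU ⟨j, rfl⟩⟩ : normalizer ((core p X : Subgroup Γ) : Set Γ)) =
            (Subgroup.inclusion hCU x) ^ j := Subtype.ext (by rw [SubgroupClass.coe_zpow]; rfl)
        rw [e, map_zpow, show abAct (core p X) (Subgroup.inclusion hCU x) = 1 from hx, one_zpow]
      have hb : Abelianization.of ((core p X).normalizerMonoidHom ⟨g, hxU hg⟩ ⟨u, hu⟩) =
          Abelianization.of (⟨u, hu⟩ : (core p X)) := by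
        rw [← abAct_of, hg1]; rfl
      exact ⟨(core p X).normalizerMonoidHom ⟨g, hxU hg⟩ ⟨u, hu⟩ * (⟨u, hu⟩ : (core p X))⁻¹, by
        rw [← Abelianization.ker_of, SetLike.mem_coe, MonoidHom.mem_ker, map_mul, map_inv, hb,
          mul_inv_cancel], rfl⟩
  have hmem := mem_sup_core h hX x.2.1 (hxcU (mem_zpowers _)) x.2.2
  obtain ⟨u, hu, w, hw, huw⟩ := Coprime.exists_mul_of_mem_sup
    ((core_le p X).trans (le_normalizer_core r X)) hmem
  have hcomm : Commute u w :=
    (mem_centralizer_iff.mp (commute_of_normalizes (Fact.out : p.Prime) (Fact.out : r.Prime) hpr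
      hUp hWp ((core_le p X).trans (le_normalizer_core r X))
      ((core_le r X).trans (le_normalizer_core p X)) hu) w hw).symm
  have hu1 : u = 1 := by
    have hxp : u ^ (orderOf (x : Γ) * Nat.card (core r X : Subgroup Γ)) = 1 := by
      have h1 : (u * w) ^ (orderOf (x : Γ) * Nat.card (core r X : Subgroup Γ)) = 1 := by
        rw [← huw, pow_mul, pow_orderOf_eq_one, one_pow]
      rw [hcomm.mul_pow] at h1
      have h2 : w ^ (orderOf (x : Γ) * Nat.card (core r X : Subgroup Γ)) = 1 :=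
        orderOf_dvd_iff_pow_eq_one.mp
          ((Subgroup.orderOf_dvd_natCard (core r X : Subgroup Γ) hw).trans (Dvd.intro_left _ rfl))
      rwa [h2, mul_one] at h1
    obtain ⟨i, hi⟩ := IsPGroup.iff_orderOf.mp hUp ⟨u, hu⟩
    rw [Subgroup.orderOf_mk] at hi
    obtain ⟨j, hj⟩ := IsPGroup.iff_card.mp hWp
    have hcop : (orderOf u).Coprime (orderOf (x : Γ) * Nat.card (core r X : Subgroup Γ)) := by
      rw [hi, hj]
      refine Nat.Coprime.pow_left i (Nat.Coprime.mul_right hox.symm ?_)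
      exact ((Nat.coprime_primes Fact.out Fact.out).mpr hpr).pow_right j
    exact orderOf_eq_one_iff.mp
      (Nat.eq_one_of_dvd_coprimes hcop dvd_rfl (orderOf_dvd_of_pow_eq_one hxp))
  rw [hu1, one_mul] at huw
  rw [huw]
  exact (mem_centralizer_iff.mp hc.2 w hw).symm

/-- The hypotheses of the linear core hold for an invariant group acting on an invariant
`p`-group. -/
theorem hyp_actHom (hqp : q ≠ p) {C U : Subgroup Γ} (hC : Inv G A C) (hU : Inv G A U)
    (hUp : IsPGroup p U) (hCU : C ≤ normalizer (U : Set Γ)) :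
    LinearCore.Hyp p q (actHom hU.2) (actHom hCU).range := by
  have hAC : ∀ (a : A) (c : C), (a : Γ) * c * (a : Γ)⁻¹ ∈ C := fun a c =>
    (mem_normalizer_iff.mp (hC.2 a.2) (c : Γ)).mp c.2
  have liftA : ∀ a : A, ∀ y ∈ (actHom hCU).range ⊓ centralizer {actHom hU.2 a},
      ∃ c : C, actHom hCU c = y ∧ (c : Γ) ∈ G ⊓ centralizer {(a : Γ)} := by
    rintro a _ ⟨⟨c, rfl⟩, hy⟩
    obtain ⟨c', hc', hcc⟩ := exists_lift h hC hCU hU.2 (zpowers (a : Γ)) (zpowers_le.mpr a.2) c (by
      rintro _ ⟨j, rfl⟩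
      have e : (⟨(a : Γ) ^ j, zpowers_le.mpr a.2 ⟨j, rfl⟩⟩ : A) = a ^ j := Subtype.ext (by simp)
      rw [e, map_zpow]
      exact ((show Commute (actHom hCU c) (actHom hU.2 a) from
        mem_centralizer_singleton_iff.mp hy).zpow_right j).eq.symm)
    exact ⟨c', hc', hC.1 c'.2,
      centralizer_le (Set.singleton_subset_iff.mpr (mem_zpowers (a : Γ))) hcc⟩
  refine
    { hW := hUp.to_quotient _
      hqp := hqp
      hA := h.hA
      hAq := h.pow_eq_one_subtype
      hAc := fun a b => Subtype.ext (h.hAc a a.2 b b.2)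
      norm := fun a => mem_normalizer_iff.mpr fun y => ?_
      hqY := (h.card_coprime hC.1).coprime_dvd_right (card_range_dvd _)
      comm := ?_
      fix := ?_
      fpf := ?_ }
  · have key : ∀ b : A, ∀ y ∈ (actHom hCU).range,
        actHom hU.2 b * y * (actHom hU.2 b)⁻¹ ∈ (actHom hCU).range := by
      rintro b _ ⟨c, rfl⟩
      exact ⟨_, actHom_conj hCU hU.2 b c (hAC b c)⟩
    exact ⟨key a y, fun hy => by simpa [mul_assoc] using key a⁻¹ _ hy⟩
  · intro a ha x hx y hy
    obtain ⟨c, rfl, hc⟩ := liftA a x hx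
    obtain ⟨d, rfl, hd⟩ := liftA a y hy
    rw [← map_mul, ← map_mul]
    congr 1
    exact Subtype.ext (h.comm a a.2 (fun e => ha (Subtype.ext e)) _ hc _ hd)
  · intro a ha y hy w hw
    obtain ⟨c, rfl, hc⟩ := liftA a y hy
    have ha1 : (a : Γ) ≠ 1 := fun e => ha (Subtype.ext e)
    obtain ⟨v, rfl⟩ := QuotientGroup.mk_surjective w
    have hza : zpowers (a : Γ) ≤ normalizer (U : Set Γ) := zpowers_le.mpr (hU.2 a.2)
    obtain ⟨n, hn, hfix⟩ := Coprime.exists_fixed_mul (A := zpowers (a : Γ))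
      (N := (commutator U).map U.subtype) (hza.trans (Tools.normalizer_le_map_char _))
      ((h.card_A_coprime ((map_subtype_le _).trans hU.1)).coprime_dvd_left
        (card_dvd_of_le (zpowers_le.mpr a.2)))
      (Or.inl (Coprime.isSolvable_zpowers _)) (k := (v : Γ)) (fun b hb => by
        obtain ⟨j, rfl⟩ := hb
        have e : (⟨(a : Γ) ^ j, hza ⟨j, rfl⟩⟩ : normalizer (U : Set Γ)) =
            (Subgroup.inclusion hU.2 a) ^ j := Subtype.ext (by simp)
        have hb : abAct U ⟨(a : Γ) ^ j, hza ⟨j, rfl⟩⟩ (Abelianization.of v) =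
            Abelianization.of v := by
          rw [e, map_zpow]
          exact MulAction.mem_stabilizer_iff.mp (zpow_mem
            (show actHom hU.2 a ∈
                MulAction.stabilizer (MulAut (Abelianization U)) (Abelianization.of v) from
              MulAction.mem_stabilizer_iff.mpr hw) j)
        rw [abAct_of] at hb
        exact ⟨U.normalizerMonoidHom ⟨(a : Γ) ^ j, hza ⟨j, rfl⟩⟩ v * v⁻¹, by
          rw [← Abelianization.ker_of, SetLike.mem_coe, MonoidHom.mem_ker, map_mul, map_inv, hb,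
            mul_inv_cancel], rfl⟩)
    obtain ⟨n, hn', rfl⟩ := hn
    have hv : Abelianization.of (n * v) = Abelianization.of v := by
      rw [map_mul, show Abelianization.of n = 1 by
        rw [← MonoidHom.mem_ker, Abelianization.ker_of]; exact hn', one_mul]
    show actHom hCU c (Abelianization.of v) = Abelianization.of v
    rw [← hv, actHom, MonoidHom.comp_apply, abAct_of]
    congr 1
    apply Subtype.ext
    show (c : Γ) * ((n * v : U) : Γ) * (c : Γ)⁻¹ = ((n * v : U) : Γ)
    rw [h.comm a a.2 ha1 _ hc ((n * v : U) : Γ) ⟨hU.1 (n * v).2,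
      centralizer_le (Set.singleton_subset_iff.mpr (mem_zpowers (a : Γ))) hfix⟩,
      mul_inv_cancel_right]
  · rintro _ ⟨c, rfl⟩ hy
    obtain ⟨c', hc', hcc⟩ := exists_lift h hC hCU hU.2 A le_rfl c fun b hb => hy ⟨b, hb⟩
    have h1 : (c' : Γ) ∈ G ⊓ centralizer (A : Set Γ) := ⟨hC.1 c'.2, hcc⟩
    rw [h.fpf, mem_bot] at h1
    rw [← hc', show c' = 1 from Subtype.ext h1, map_one]

/-- **The `p`-part of `C(O_r(X))` is contained in `O_p(X)`.** -/
theorem inf_centralizer_le_core (hpr : p ≠ r) {P X : Subgroup Γ} (hP : IsSyl G A p P)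
    (hX : PR G A p r X) :
    P ⊓ X ⊓ centralizer ((core r X : Subgroup Γ) : Set Γ) ≤ core p X := by
  haveI := Fact.mk h.hq
  haveI := h.solvable_PR hX
  by_cases hPb : P = ⊥
  · rw [hPb, bot_inf_eq, bot_inf_eq]; exact bot_le
  have hqp : q ≠ p := by
    rintro rfl
    haveI : Nontrivial P := (nontrivial_iff_ne_bot P).mpr hPb
    obtain ⟨k, hk, hkc⟩ := hP.isP.nontrivial_iff_card.mp inferInstance
    have := h.card_coprime hP.inv.1
    rw [hkc] at this
    exact (Nat.Prime.coprime_iff_not_dvd h.hq).mp this (dvd_pow_self q hk.ne')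
  set U := core p X with hU
  set C := X ⊓ centralizer ((core r X : Subgroup Γ) : Set Γ) with hC
  have hCinv : Inv G A C := hX.1.inf (le_normalizer_centralizer (hX.1.core r).2)
  have hXC : X ≤ normalizer (C : Set Γ) := by
    refine le_normalizer_iff.mpr fun g hg x hx => ⟨mul_mem (mul_mem hg hx.1) (X.inv_mem hg), ?_⟩
    show g * x * g⁻¹ ∈ centralizer ((core r X : Subgroup Γ) : Set Γ)
    rw [mem_centralizer_iff]
    intro w hw
    have hw' := (mem_normalizer_iff''.mp (le_normalizer_core r X hg) w).mp hw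
    have hc := mem_centralizer_iff.mp hx.2 _ hw'
    calc w * (g * x * g⁻¹) = g * ((g⁻¹ * w * g) * x) * g⁻¹ := by group
      _ = g * (x * (g⁻¹ * w * g)) * g⁻¹ := by rw [hc]
      _ = g * x * g⁻¹ * w := by group
  have hcoreC : core p C ≤ U := by
    haveI : (Cfsg.pCore p C).Characteristic := inferInstance
    exact le_core ((core_le p C).trans inf_le_left) (hXC.trans (Tools.normalizer_le_map_char _))
      (isPGroup_core p C)
  have hCU : C ≤ normalizer (U : Set Γ) := inf_le_left.trans (le_normalizer_core p X)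
  have hker : ∀ x : C, (x : Γ) ∈ U → actHom hCU x = 1 := by
    intro x hx
    refine MulEquiv.ext fun w => ?_
    obtain ⟨z, rfl⟩ := QuotientGroup.mk_surjective w
    show actHom hCU x (Abelianization.of z) = Abelianization.of z
    rw [actHom, MonoidHom.comp_apply, abAct_of]
    have : U.normalizerMonoidHom (Subgroup.inclusion hCU x) z =
        (⟨(x : Γ), hx⟩ : U) * z * (⟨(x : Γ), hx⟩ : U)⁻¹ := Subtype.ext rfl
    rw [this, map_mul, map_mul, map_inv, mul_inv_cancel_comm]
  haveI : Group.IsSolvable C := Coprime.isSolvable_of_le (inf_le_left : C ≤ X)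
  haveI : Group.IsSolvable (actHom hCU).range :=
    Group.isSolvable_of_surjective (f := (actHom hCU).rangeRestrict)
      (actHom hCU).rangeRestrict_surjective
  have hcent : ∀ x : C, actHom hCU x = 1 → (orderOf (x : Γ)).Coprime p →
      ∀ c ∈ C, c * (x : Γ) = x * c := central_of_ker h hpr hX hCU
  have hnd := LinearCore.main (hyp_actHom h hqp hCinv (hX.1.core p) (isPGroup_core p X) hCU)
    (pCore_range_eq_bot (actHom hCU) (fun x hx => hker x (hcoreC hx))
      hcent)
  intro x hx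
  obtain ⟨k, hk⟩ := IsPGroup.iff_orderOf.mp hP.isP ⟨x, hx.1.1⟩
  rw [Subgroup.orderOf_mk] at hk
  have hxC : x ∈ C := ⟨hx.1.2, hx.2⟩
  refine hcoreC (mem_core_of_central (N := (actHom hCU).ker.map C.subtype) (k := k)
    (map_subtype_le _) ?_ ?_ ⟨⟨x, hxC⟩, ?_, rfl⟩ (by rw [← hk, pow_orderOf_eq_one]))
  · refine le_normalizer_iff.mpr ?_
    rintro g hg _ ⟨z, hz, rfl⟩
    refine ⟨⟨g, hg⟩ * z * ⟨g, hg⟩⁻¹, MonoidHom.mem_ker.mpr ?_, rfl⟩
    rw [map_mul, map_mul, MonoidHom.mem_ker.mp hz, mul_one, map_inv, mul_inv_cancel]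
  · rintro _ ⟨z, hz, rfl⟩ hzo c hc
    rw [Subgroup.coe_subtype] at hzo ⊢
    exact hcent z (MonoidHom.mem_ker.mp hz) hzo c hc
  · have h1 : orderOf (actHom hCU ⟨x, hxC⟩) ∣ p ^ k := by
      rw [← hk, ← Subgroup.orderOf_mk x hxC]
      exact orderOf_map_dvd _ _
    obtain ⟨i, -, hi⟩ := (Nat.dvd_prime_pow Fact.out).mp h1
    have hd : orderOf (actHom hCU ⟨x, hxC⟩) ∣ Nat.card (actHom hCU).range :=
      Subgroup.orderOf_dvd_natCard _ ⟨_, rfl⟩
    rcases Nat.eq_zero_or_pos i with hi0 | hi0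
    · rw [hi0, pow_zero] at hi
      exact orderOf_eq_one_iff.mp hi
    · exact absurd ((dvd_pow_self p hi0.ne').trans (hi ▸ hd)) hnd

end Cfsg.Agent.Lib.LAEven57.AbelianCent
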