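import Mathlib
import Cfsg.Agent.Lib.LAEven57.AbelianCent.Local
import Cfsg.Agent.Lib.OddLocal.CoprimeFix

/-!
# A maximal invariant `{p, r}`-subgroup with both cores non-trivial contains both Sylow subgroups
-/

set_option autoImplicit false
set_option linter.style.haveILetI false
set_option linter.unusedSectionVars false

namespace Cfsg.Agent.Lib.LAEven57.AbelianCent

open Subgroup

variable {Γ : Type*} [Group Γ]

/-- The centre of a subgroup. -/
abbrev zc (S : Subgroup Γ) : Subgroup Γ := S ⊓ centralizer (S : Set Γ)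

theorem normalizer_le_zc (S : Subgroup Γ) :
    normalizer (S : Set Γ) ≤ normalizer ((zc S : Subgroup Γ) : Set Γ) := by
  refine le_normalizer_iff.mpr fun g hg x hx => ⟨(mem_normalizer_iff.mp hg x).mp hx.1, ?_⟩
  show g * x * g⁻¹ ∈ centralizer (S : Set Γ)
  rw [mem_centralizer_iff]
  intro w hw
  have hc := mem_centralizer_iff.mp hx.2 _ ((mem_normalizer_iff''.mp hg w).mp hw)
  calc w * (g * x * g⁻¹) = g * ((g⁻¹ * w * g) * x) * g⁻¹ := by group
    _ = g * (x * (g⁻¹ * w * g)) * g⁻¹ := by rw [hc]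
    _ = g * x * g⁻¹ * w := by group

theorem zc_ne_bot [Finite Γ] {p : ℕ} [Fact p.Prime] {S : Subgroup Γ} (hS : IsPGroup p S)
    (hS1 : S ≠ ⊥) : zc S ≠ ⊥ := by
  haveI : Nontrivial S := (nontrivial_iff_ne_bot S).mpr hS1
  haveI := hS.center_nontrivial
  obtain ⟨z, hz, hz1⟩ := (Subgroup.bot_or_exists_ne_one (center S)).resolve_left
    ((nontrivial_iff_ne_bot _).mp inferInstance)
  intro hb
  have : (z : Γ) ∈ zc S := ⟨z.2, by
    show (z : Γ) ∈ centralizer (S : Set Γ)
    rw [mem_centralizer_iff]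
    exact fun y hy => congrArg Subtype.val (mem_center_iff.mp hz ⟨y, hy⟩)⟩
  rw [hb, mem_bot] at this
  exact hz1 (Subtype.ext this)

theorem maximal_symm {G A : Subgroup Γ} {p r : ℕ} {Y : Subgroup Γ}
    (h : Maximal (PR G A p r) Y) : Maximal (PR G A r p) Y :=
  ⟨h.1.symm, fun _ hX hYX => h.2 hX.symm hYX⟩

variable [Finite Γ] {q p r : ℕ} [Fact p.Prime] [Fact r.Prime] {G A : Subgroup Γ} (h : Min q G A)
  (hpr : p ≠ r) {P R : Subgroup Γ} (hP : IsSyl G A p P) (hR : IsSyl G A r R)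
include h hP hR

/-- In a proper overgroup of a maximal `{p, r}`-subgroup the two parts stay inside it. -/
theorem parts_le_of_le {Y X : Subgroup Γ} (hY : Maximal (PR G A p r) Y) (hX : Inv G A X)
    (hsol : Group.IsSolvable X) (hYX : Y ≤ X) : P ⊓ X ≤ Y ∧ R ⊓ X ≤ Y := by
  obtain ⟨H, hH, -, hPH, hRH⟩ := h.exists_parts hP hR hX hsol
  have hYH : Y ≤ H := h.le_of_parts hP hR hY.1
    ((inf_le_inf_left _ hYX).trans hPH) ((inf_le_inf_left _ hYX).trans hRH)
  exact ⟨hPH.trans (hY.2 hH hYH), hRH.trans (hY.2 hH hYH)⟩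

theorem parts_le_normalizer {Y S : Subgroup Γ} (hY : Maximal (PR G A p r) Y) (hS : Inv G A S)
    (hS1 : S ≠ ⊥) {s : ℕ} [Fact s.Prime] (hSs : IsPGroup s S) (hYS : Y ≤ normalizer (S : Set Γ)) :
    P ⊓ (G ⊓ normalizer (S : Set Γ)) ≤ Y ∧ R ⊓ (G ⊓ normalizer (S : Set Γ)) ≤ Y :=
  parts_le_of_le h hP hR hY (h.inv_normalizer hS)
    (h.solvable_normalizer hS hS1 (Coprime.isSolvable_of_isPGroup hSs)) (le_inf hY.1.1.1 hYS)

include hpr

/-- The first half of Bender's uniqueness argument. -/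
theorem zc_le_core {Y Y₁ : Subgroup Γ} (hY : Maximal (PR G A p r) Y) (hY₁ : PR G A p r Y₁)
    (hU : core p Y ≠ ⊥) (hp1 : zc (core p Y) ≤ Y₁) (hr1 : zc (core r Y) ≤ Y₁) :
    zc (core r Y) ≤ core r Y₁ := by
  set U := core p Y with hUdef
  set W := core r Y with hWdef
  set O := core p Y₁ with hO
  have hUp : IsPGroup p U := isPGroup_core p Y
  have hWr : IsPGroup r W := isPGroup_core r Y
  have hUW : U ≤ centralizer (W : Set Γ) :=
    commute_of_normalizes Fact.out Fact.out hpr hUp hWr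
      ((core_le p Y).trans (le_normalizer_core r Y)) ((core_le r Y).trans (le_normalizer_core p Y))
  have hYn : ∀ s, Y ≤ normalizer ((zc (core s Y) : Subgroup Γ) : Set Γ) := fun s =>
    (le_normalizer_core s Y).trans (normalizer_le_zc _)
  have hZinv : Inv G A (zc U) :=
    ⟨inf_le_left.trans (hY.1.1.core p).1, (hY.1.1.core p).2.trans (normalizer_le_zc _)⟩
  have hparts := parts_le_normalizer h hP hR hY hZinv (zc_ne_bot hUp hU) (hUp.to_le inf_le_left)
    (hYn p)
  -- the nilpotent group on which the elements of `Z(W)` act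
  set H := O ⊔ zc U with hH
  have hHP : H ≤ P := sup_le (hP.ge O (hY₁.1.core p) (isPGroup_core p Y₁))
    (inf_le_left.trans (hP.ge U (hY.1.1.core p) hUp))
  have hHp : IsPGroup p H := hP.isP.to_le hHP
  intro x hx
  have hxr : x ∈ R := hR.ge W (hY.1.1.core r) hWr hx.1
  have hxU : x ∈ centralizer (U : Set Γ) :=
    mem_centralizer_iff.mpr fun u hu => (mem_centralizer_iff.mp (hUW hu) x hx.1).symm
  have hxC : x ∈ centralizer ((zc U : Subgroup Γ) : Set Γ) :=
    centralizer_le (inf_le_left : zc U ≤ U) hxU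
  have hxH : x ∈ normalizer (H : Set Γ) := by
    have := Coprime.le_normalizer_sup (A := zpowers x) (K := O) (N := zc U)
      (zpowers_le.mpr (le_normalizer_core p Y₁ (hr1 hx)))
      (zpowers_le.mpr (Subgroup.centralizer_le_normalizer _ hxC))
    exact this (mem_zpowers x)
  have hcop : (orderOf x).Coprime (Nat.card H) := by
    obtain ⟨j, hj⟩ := IsPGroup.iff_card.mp hHp
    obtain ⟨i, hi⟩ := IsPGroup.iff_orderOf.mp hWr ⟨x, hx.1⟩
    rw [Subgroup.orderOf_mk] at hi
    rw [hi, hj]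
    exact Nat.Coprime.pow _ _ ((Nat.coprime_primes Fact.out Fact.out).mpr (Ne.symm hpr))
  have hcent : ∀ y ∈ H, x * y = y * x := by
    refine OddLocal.CoprimeFix.centralizes_of_centralizer_fixed hHp.isNilpotent
      (C := H ⊓ centralizer {x}) inf_le_left hxH hcop
      (fun y hy hxy => ⟨hy, mem_centralizer_singleton_iff.mpr hxy.symm⟩)
      (mem_centralizer_iff.mpr fun y hy => mem_centralizer_singleton_iff.mp hy.2) ?_
    intro y hy hyC
    have hyZ : y ∈ centralizer ((zc U : Subgroup Γ) : Set Γ) := by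
      rw [mem_centralizer_iff]
      intro z hz
      exact mem_centralizer_iff.mp hyC z ⟨mem_sup_right hz,
        mem_centralizer_singleton_iff.mpr (mem_centralizer_iff.mp hxC z hz)⟩
    have hyY : y ∈ Y := hparts.1
      ⟨hHP hy, hP.inv.1 (hHP hy), Subgroup.centralizer_le_normalizer _ hyZ⟩
    have h3 : x * y * x⁻¹ * y⁻¹ ∈ H ⊓ zc W := by
      refine ⟨mul_mem ((mem_normalizer_iff.mp hxH y).mp hy) (H.inv_mem hy), ?_⟩
      have := mul_mem hx ((mem_normalizer_iff.mp (hYn r hyY) x⁻¹).mp (inv_mem hx))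
      simpa [mul_assoc] using this
    rw [inf_eq_bot_of_ne Fact.out Fact.out hpr hHp (hWr.to_le inf_le_left), mem_bot,
      mul_inv_eq_one, mul_inv_eq_iff_eq_mul] at h3
    exact h3
  refine inf_centralizer_le_core h hpr.symm hR hY₁.symm ⟨⟨hxr, hr1 hx⟩, ?_⟩
  show x ∈ centralizer ((core p Y₁ : Subgroup Γ) : Set Γ)
  exact mem_centralizer_iff.mpr fun y hy => (hcent y (mem_sup_left hy)).symm

/-- **Bender's uniqueness theorem.** -/
theorem le_of_zc_le {Y X : Subgroup Γ} (hY : Maximal (PR G A p r) Y) (hU : core p Y ≠ ⊥)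
    (hW : core r Y ≠ ⊥) (hX : PR G A p r X) (hp1 : zc (core p Y) ≤ X)
    (hr1 : zc (core r Y) ≤ X) : X ≤ Y := by
  obtain ⟨Y₁, hXY₁, hY₁⟩ := h.exists_maximal hX
  refine hXY₁.trans ?_
  have hWr1 : zc (core r Y) ≤ core r Y₁ :=
    zc_le_core h hpr hP hR hY hY₁.1 hU (hp1.trans hXY₁) (hr1.trans hXY₁)
  have hUp1 : zc (core p Y) ≤ core p Y₁ :=
    zc_le_core h hpr.symm hR hP (maximal_symm hY) hY₁.1.symm hW (hr1.trans hXY₁) (hp1.trans hXY₁)
  have hU1 : core p Y₁ ≠ ⊥ := fun e =>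
    zc_ne_bot (isPGroup_core p Y) hU (le_bot_iff.mp (e ▸ hUp1))
  have hW1 : core r Y₁ ≠ ⊥ := fun e =>
    zc_ne_bot (isPGroup_core r Y) hW (le_bot_iff.mp (e ▸ hWr1))
  -- the `p`-core of one lies in the other
  have hcross : ∀ (Y Y' : Subgroup Γ), Maximal (PR G A p r) Y → core r Y ≠ ⊥ →
      zc (core r Y) ≤ core r Y' → PR G A p r Y' → core p Y' ≤ Y := by
    intro Y Y' hY hW hle hY'
    have hinv : Inv G A (zc (core r Y)) :=
      ⟨inf_le_left.trans (hY.1.1.core r).1, (hY.1.1.core r).2.trans (normalizer_le_zc _)⟩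
    have hp := (parts_le_normalizer h hP hR hY hinv (zc_ne_bot (isPGroup_core r Y) hW)
      ((isPGroup_core r Y).to_le inf_le_left)
      ((le_normalizer_core r Y).trans (normalizer_le_zc _))).1
    intro u hu
    refine hp ⟨hP.ge _ (hY'.1.core p) (isPGroup_core p Y') hu, (hY'.1.core p).1 hu,
      Subgroup.centralizer_le_normalizer _ ?_⟩
    exact centralizer_le (SetLike.coe_subset_coe.mpr hle)
      (commute_of_normalizes Fact.out Fact.out hpr (isPGroup_core p Y') (isPGroup_core r Y')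
        ((core_le p Y').trans (le_normalizer_core r Y'))
        ((core_le r Y').trans (le_normalizer_core p Y')) hu)
  have hcross' : ∀ (Y Y' : Subgroup Γ), Maximal (PR G A p r) Y → core p Y ≠ ⊥ →
      zc (core p Y) ≤ core p Y' → PR G A p r Y' → core r Y' ≤ Y := by
    intro Y Y' hY hU hle hY'
    have hinv : Inv G A (zc (core p Y)) :=
      ⟨inf_le_left.trans (hY.1.1.core p).1, (hY.1.1.core p).2.trans (normalizer_le_zc _)⟩
    have hr := (parts_le_normalizer h hP hR hY hinv (zc_ne_bot (isPGroup_core p Y) hU)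
      ((isPGroup_core p Y).to_le inf_le_left)
      ((le_normalizer_core p Y).trans (normalizer_le_zc _))).2
    intro w hw
    refine hr ⟨hR.ge _ (hY'.1.core r) (isPGroup_core r Y') hw, (hY'.1.core r).1 hw,
      Subgroup.centralizer_le_normalizer _ ?_⟩
    exact centralizer_le (SetLike.coe_subset_coe.mpr hle)
      (commute_of_normalizes Fact.out Fact.out hpr.symm (isPGroup_core r Y') (isPGroup_core p Y')
        ((core_le r Y').trans (le_normalizer_core p Y'))
        ((core_le p Y').trans (le_normalizer_core r Y')) hw)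
  have hU1Y : core p Y₁ ≤ Y := hcross Y Y₁ hY hW hWr1 hY₁.1
  have hW1Y : core r Y₁ ≤ Y := hcross' Y Y₁ hY hU hUp1 hY₁.1
  have hz1 : zc (core p Y₁) ≤ Y := inf_le_left.trans hU1Y
  have hz2 : zc (core r Y₁) ≤ Y := inf_le_left.trans hW1Y
  have hWW : zc (core r Y₁) ≤ core r Y := zc_le_core h hpr hP hR hY₁ hY.1 hU1 hz1 hz2
  have hUU : zc (core p Y₁) ≤ core p Y :=
    zc_le_core h hpr.symm hR hP (maximal_symm hY₁) hY.1.symm hW1 hz2 hz1
  have hUY1 : core p Y ≤ Y₁ := hcross Y₁ Y hY₁ hW1 hWW hY.1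
  have hsub : ∀ (Y Y' : Subgroup Γ), PR G A p r Y → PR G A p r Y' → core p Y ≤ Y' →
      core r Y' ≤ Y → core p Y ≤ core p Y' := by
    intro Y Y' hY hY' hle hle' u hu
    refine inf_centralizer_le_core h hpr hP hY'
      ⟨⟨hP.ge _ (hY.1.core p) (isPGroup_core p Y) hu, hle hu⟩, ?_⟩
    exact commute_of_normalizes Fact.out Fact.out hpr (isPGroup_core p Y) (isPGroup_core r Y')
      (hle.trans (le_normalizer_core r Y')) (hle'.trans (le_normalizer_core p Y)) hu
  have hWY1 : core r Y ≤ Y₁ := hcross' Y₁ Y hY₁ hU1 hUU hY.1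
  have heq : core p Y = core p Y₁ := le_antisymm (hsub Y Y₁ hY.1 hY₁.1 hUY1 hW1Y)
    (hsub Y₁ Y hY₁.1 hY.1 hU1Y hWY1)
  obtain ⟨hp, hr⟩ := parts_le_normalizer h hP hR hY (hY.1.1.core p) hU (isPGroup_core p Y)
    (le_normalizer_core p Y)
  have hY1n : Y₁ ≤ G ⊓ normalizer ((core p Y : Subgroup Γ) : Set Γ) :=
    le_inf hY₁.1.1.1 (heq ▸ le_normalizer_core p Y₁)
  exact h.le_of_parts hP hR hY₁.1 ((inf_le_inf_left _ hY1n).trans hp)
    ((inf_le_inf_left _ hY1n).trans hr)

/-- The parts of a proper invariant subgroup containing both centres lie in `Y`. -/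
theorem parts_le_of_zc_le {Y X : Subgroup Γ} (hY : Maximal (PR G A p r) Y) (hU : core p Y ≠ ⊥)
    (hW : core r Y ≠ ⊥) (hX : Inv G A X) (hsol : Group.IsSolvable X)
    (hp1 : zc (core p Y) ≤ X) (hr1 : zc (core r Y) ≤ X) : P ⊓ X ≤ Y ∧ R ⊓ X ≤ Y := by
  obtain ⟨H, hH, -, hPH, hRH⟩ := h.exists_parts hP hR hX hsol
  have h1 : zc (core p Y) ≤ P :=
    inf_le_left.trans (hP.ge _ (hY.1.1.core p) (isPGroup_core p Y))
  have h2 : zc (core r Y) ≤ R :=
    inf_le_left.trans (hR.ge _ (hY.1.1.core r) (isPGroup_core r Y))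
  have hle : H ≤ Y := le_of_zc_le h hpr hP hR hY hU hW hH
    ((le_inf h1 hp1).trans hPH) ((le_inf h2 hr1).trans hRH)
  exact ⟨hPH.trans hle, hRH.trans hle⟩

/-- A line meeting one of the cores has its whole `p`-part in `Y`. -/
theorem inf_fixed_le {Y : Subgroup Γ} (hY : Maximal (PR G A p r) Y) (hU : core p Y ≠ ⊥)
    (hW : core r Y ≠ ⊥) {a : Γ} (ha : a ∈ A) (ha1 : a ≠ 1)
    (hne : core p Y ⊓ centralizer {a} ≠ ⊥ ∨ core r Y ⊓ centralizer {a} ≠ ⊥) :
    P ⊓ centralizer {a} ≤ Y := by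
  have hcomm : core p Y ≤ centralizer ((core r Y : Subgroup Γ) : Set Γ) :=
    commute_of_normalizes Fact.out Fact.out hpr (isPGroup_core p Y) (isPGroup_core r Y)
      ((core_le p Y).trans (le_normalizer_core r Y)) ((core_le r Y).trans (le_normalizer_core p Y))
  have main : ∀ (s : ℕ) [Fact s.Prime] (S : Subgroup Γ), Inv G A S → IsPGroup s S →
      S ≤ centralizer {a} → S ≠ ⊥ →
      zc (core p Y) ≤ centralizer (S : Set Γ) → zc (core r Y) ≤ centralizer (S : Set Γ) →
      P ⊓ centralizer {a} ≤ Y := by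
    intro s _ S hS hSs hSa hS1 h1 h2
    have hsol := h.solvable_centralizer hS hS1 (Coprime.isSolvable_of_isPGroup hSs)
    refine le_trans ?_ (parts_le_of_zc_le h hpr hP hR hY hU hW (h.inv_centralizer hS) hsol
      (le_inf (inf_le_left.trans (hY.1.1.core p).1) h1)
      (le_inf (inf_le_left.trans (hY.1.1.core r).1) h2)).1
    refine le_inf inf_le_left (le_inf (inf_le_left.trans hP.inv.1) fun x hx => ?_)
    show x ∈ centralizer (S : Set Γ)
    rw [mem_centralizer_iff]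
    intro s' hs'
    exact h.comm a ha ha1 s' ⟨hS.1 hs', hSa hs'⟩ x ⟨hP.inv.1 hx.1, hx.2⟩
  rcases hne with hne | hne
  · refine main p _ (h.inv_fixed (hY.1.1.core p) ha) ((isPGroup_core p Y).to_le inf_le_left)
      inf_le_right hne ?_ ?_
    · exact fun x hx => centralizer_le (SetLike.coe_subset_coe.mpr inf_le_left) hx.2
    · intro x hx
      rw [mem_centralizer_iff]
      intro y hy
      exact (mem_centralizer_iff.mp (hcomm hy.1) x hx.1).symm
  · refine main r _ (h.inv_fixed (hY.1.1.core r) ha) ((isPGroup_core r Y).to_le inf_le_left)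
      inf_le_right hne ?_ ?_
    · exact fun x hx => centralizer_le (SetLike.coe_subset_coe.mpr inf_le_left) (hcomm hx.1)
    · exact fun x hx => centralizer_le (SetLike.coe_subset_coe.mpr inf_le_left) hx.2

/-- **A maximal subgroup with both cores non-trivial contains `P`.** -/
theorem syl_le_of_mixed {Y : Subgroup Γ} (hY : Maximal (PR G A p r) Y) (hU : core p Y ≠ ⊥)
    (hW : core r Y ≠ ⊥) : P ≤ Y := by
  by_contra hPY
  set U := core p Y with hUdef
  set W := core r Y with hWdef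
  set P₀ := P ⊓ Y with hP₀
  have hUP : U ≤ P₀ := le_inf (hP.ge U (hY.1.1.core p) (isPGroup_core p Y)) (core_le p Y)
  have hP₀inv : Inv G A P₀ := hP.inv.inf hY.1.1.2
  have hP₀n : P₀ ≤ normalizer (U : Set Γ) := inf_le_right.trans (le_normalizer_core p Y)
  obtain ⟨hpn, -⟩ := parts_le_normalizer h hP hR hY (hY.1.1.core p) hU (isPGroup_core p Y)
    (le_normalizer_core p Y)
  have hne : P₀ ≠ P := fun e => hPY (e ▸ inf_le_right)
  haveI hnil : Group.IsNilpotent P := hP.isP.isNilpotent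
  have hgrow : P₀ = P ⊓ normalizer (P₀ : Set Γ) → False := by
    intro e
    apply hne
    refine le_antisymm inf_le_left ?_
    have := normalizerCondition_iff_only_full_group_self_normalizing.mp
      (Group.normalizerCondition_of_isNilpotent (G := P)) (P₀.subgroupOf P) (by
        refine le_antisymm ?_ le_normalizer
        intro x hx
        rw [mem_subgroupOf, e]
        refine ⟨x.2, mem_normalizer_iff.mpr fun y => ⟨fun hy => ?_, fun hy => ?_⟩⟩
        · exact (mem_normalizer_iff.mp hx ⟨y, hy.1⟩).mp hy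
        · have hyP : y ∈ P := by
            simpa [mul_assoc] using mul_mem (mul_mem (inv_mem x.2) hy.1) x.2
          exact (mem_normalizer_iff.mp hx ⟨y, hyP⟩).mpr hy)
    exact subgroupOf_eq_top.mp this
  -- a line outside `U`
  obtain ⟨a, ha, ha1, haY⟩ : ∃ a ∈ A, a ≠ 1 ∧ ¬ P ⊓ centralizer {a} ≤ Y := by
    by_contra hall
    push Not at hall
    exact hPY (h.le_of_fixed_le hP.inv hall)
  have hWa : W ⊓ centralizer {a} = ⊥ := by
    by_contra hc; exact haY (inf_fixed_le h hpr hP hR hY hU hW ha ha1 (Or.inr hc))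
  have hUa : U ⊓ centralizer {a} = ⊥ := by
    by_contra hc; exact haY (inf_fixed_le h hpr hP hR hY hU hW ha ha1 (Or.inl hc))
  obtain ⟨c, hc, hc1, hcU⟩ : ∃ c ∈ A, c ≠ 1 ∧ ¬ P₀ ⊓ centralizer {c} ≤ U := by
    by_contra hall
    push Not at hall
    have he : P₀ = U := le_antisymm (h.le_of_fixed_le hP₀inv hall) hUP
    exact hgrow (le_antisymm (le_inf inf_le_left le_normalizer) (le_inf inf_le_left
      ((le_inf inf_le_left (le_inf (inf_le_left.trans hP.inv.1) (inf_le_right.trans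
        (le_of_eq (by rw [he]))))).trans hpn)))
  -- `W` has a part on every line but that of `c`
  have hWne : ∀ c ∈ A, c ≠ 1 → ¬ P₀ ⊓ centralizer {c} ≤ U → ∀ d ∈ A, d ∉ zpowers c →
      W ⊓ centralizer {d} ≠ ⊥ := by
    intro c hc hc1 hcU d hd hdc hbot
    refine hcU fun x hx => ?_
    have hN : Inv G A (P₀ ⊓ centralizer {c}) := h.inv_fixed hP₀inv hc
    have hcop : (Nat.card (P₀ ⊓ centralizer {c} : Subgroup Γ)).Coprime (Nat.card W) :=
      IsPGroup.coprime_card_of_ne p r hpr _ _ (hP.isP.to_le (inf_le_left.trans inf_le_left))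
        (isPGroup_core r Y)
    have hWnil : Group.IsNilpotent W :=
      haveI := Fact.mk (Fact.out : r.Prime)
      (isPGroup_core r Y).isNilpotent
    have hcent := h.centralizes_of_bot (hY.1.1.core r) hN
      (inf_le_left.trans (inf_le_right.trans (le_normalizer_core r Y))) hWnil hcop hc hc1 hd hdc
      inf_le_right hbot hx
    exact inf_centralizer_le_core h hpr hP hY.1 ⟨⟨hx.1.1, hx.1.2⟩, hcent⟩
  have hca : a ∈ zpowers c := by
    by_contra hca
    exact hWne c hc hc1 hcU a ha hca hWa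
  have hcent : centralizer ({a} : Set Γ) = centralizer {c} := h.centralizer_eq hc ha1 hca
  have hfar : ∀ d ∈ A, d ≠ 1 → d ∉ zpowers c → P₀ ⊓ centralizer {d} ≤ U ∧ P ⊓ centralizer {d} ≤ P₀ := by
    intro d hd hd1 hdc
    refine ⟨?_, le_inf inf_le_left (inf_fixed_le h hpr hP hR hY hU hW hd hd1
      (Or.inr (hWne c hc hc1 hcU d hd hdc)))⟩
    by_contra hdU
    refine hWne d hd hd1 hdU a ha (fun had => hdc ?_) hWa
    exact zpowers_le.mpr hca (h.mem_zpowers_symm hd ha1 had)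
  -- `P₀` is `U` times its `a`-fixed part
  have hsplit : ∀ x ∈ P₀, ∃ t ∈ P₀ ⊓ centralizer {a}, ∃ u ∈ U, t * u = x := by
    intro x hx
    suffices hsup : x ∈ (P₀ ⊓ centralizer {a}) ⊔ U by
      obtain ⟨t, ht, u, hu, he⟩ := Coprime.exists_mul_of_mem_sup (inf_le_left.trans hP₀n) hsup
      exact ⟨t, ht, u, hu, he.symm⟩
    refine h.le_of_fixed_le hP₀inv (fun d hd hd1 => ?_) hx
    by_cases hdc : d ∈ zpowers c
    · refine le_trans ?_ le_sup_left
      rw [h.centralizer_eq hc hd1 hdc, hcent]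
    · exact (hfar d hd hd1 hdc).1.trans le_sup_right
  apply hgrow
  refine le_antisymm (le_inf inf_le_left le_normalizer) (h.le_of_fixed_le
    (hP.inv.inf (le_normalizer_normalizer hP₀inv.2)) fun d hd hd1 => ?_)
  by_cases hdc : d ∈ zpowers c
  swap
  · exact (inf_le_inf_right _ inf_le_left).trans (hfar d hd hd1 hdc).2
  rintro y ⟨⟨hyP, hyN⟩, hyd⟩
  rw [h.centralizer_eq hc hd1 hdc, ← hcent] at hyd
  have hya : Commute y a := mem_centralizer_singleton_iff.mp hyd
  -- conjugation by `y` keeps `U`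
  have hmap : ∀ s : U, ∃ s' : U, (y * (s : Γ) * y⁻¹)⁻¹ * (a * (y * s * y⁻¹) * a⁻¹) = y * s' * y⁻¹ := by
    intro s
    refine ⟨⟨(s : Γ)⁻¹ * (a * s * a⁻¹), mul_mem (inv_mem s.2)
      ((mem_normalizer_iff.mp ((hY.1.1.core p).2 ha) (s : Γ)).mp s.2)⟩, ?_⟩
    have e1 : a * y = y * a := hya.eq.symm
    have e2 : y⁻¹ * a⁻¹ = a⁻¹ * y⁻¹ := by rw [← mul_inv_rev, e1, mul_inv_rev]
    calc (y * (s : Γ) * y⁻¹)⁻¹ * (a * (y * s * y⁻¹) * a⁻¹)
        = y * (s : Γ)⁻¹ * y⁻¹ * ((a * y) * s * (y⁻¹ * a⁻¹)) := by group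
      _ = y * (s : Γ)⁻¹ * y⁻¹ * ((y * a) * s * (a⁻¹ * y⁻¹)) := by rw [e1, e2]
      _ = _ := by group
  choose f hf using hmap
  have hfinj : Function.Injective f := by
    intro s t hst
    have h1 := (hf s).trans ((congrArg (fun z : U => y * (z : Γ) * y⁻¹) hst).trans (hf t).symm)
    have h2 : (s : Γ) * (t : Γ)⁻¹ ∈ U ⊓ centralizer {a} := by
      refine ⟨mul_mem s.2 (U.inv_mem t.2), mem_centralizer_singleton_iff.mpr ?_⟩
      have h3 : a * (y * ((s : Γ) * (t : Γ)⁻¹) * y⁻¹) * a⁻¹ = y * ((s : Γ) * (t : Γ)⁻¹) * y⁻¹ := by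
        calc a * (y * ((s : Γ) * (t : Γ)⁻¹) * y⁻¹) * a⁻¹
            = (y * (s : Γ) * y⁻¹) * ((y * (s : Γ) * y⁻¹)⁻¹ * (a * (y * s * y⁻¹) * a⁻¹)) *
              ((y * (t : Γ) * y⁻¹)⁻¹ * (a * (y * t * y⁻¹) * a⁻¹))⁻¹ * (y * (t : Γ) * y⁻¹)⁻¹ := by
              group
          _ = (y * (s : Γ) * y⁻¹) * (y * (t : Γ) * y⁻¹)⁻¹ := by rw [h1, mul_inv_cancel_right]
          _ = _ := by group
      have h4 : Commute a (y * ((s : Γ) * (t : Γ)⁻¹) * y⁻¹) := mul_inv_eq_iff_eq_mul.mp h3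
      have h5 := ((Commute.mul_right hya.symm.inv_right h4).mul_right hya.symm)
      have e : y⁻¹ * (y * ((s : Γ) * (t : Γ)⁻¹) * y⁻¹) * y = (s : Γ) * (t : Γ)⁻¹ := by group
      rw [e] at h5
      exact h5.eq.symm
    rw [hUa, mem_bot, mul_inv_eq_one] at h2
    exact Subtype.ext h2
  refine ⟨hyP, hpn ⟨hyP, hP.inv.1 hyP, ?_⟩⟩
  have key : ∀ u ∈ U, y * u * y⁻¹ ∈ U := by
    intro u hu
    obtain ⟨s, hs⟩ := (hfinj.bijective_of_finite).2 ⟨u, hu⟩
    have hs' : y * u * y⁻¹ = (y * (s : Γ) * y⁻¹)⁻¹ * (a * (y * s * y⁻¹) * a⁻¹) := by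
      rw [hf s, hs]
    obtain ⟨t, ht, w, hw, htw⟩ := hsplit _ ((mem_normalizer_iff.mp hyN (s : Γ)).mp (hUP s.2))
    have hta : Commute a t := (mem_centralizer_singleton_iff.mp ht.2).symm
    rw [hs', ← htw]
    have : (t * w)⁻¹ * (a * (t * w) * a⁻¹) = w⁻¹ * (a * w * a⁻¹) := by
      calc (t * w)⁻¹ * (a * (t * w) * a⁻¹) = w⁻¹ * t⁻¹ * ((a * t) * w * a⁻¹) := by group
        _ = w⁻¹ * t⁻¹ * ((t * a) * w * a⁻¹) := by rw [hta.eq]
        _ = _ := by group
    rw [this]
    exact mul_mem (inv_mem hw) ((mem_normalizer_iff.mp ((hY.1.1.core p).2 ha) w).mp hw)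
  refine mem_normalizer_iff.mpr fun u => ⟨key u, fun hu => ?_⟩
  -- injectivity of conjugation on the finite set `U`
  have hginj : Function.Injective (fun z : U => (⟨y * z * y⁻¹, key z z.2⟩ : U)) :=
    fun z z' hzz => Subtype.ext (by simpa using congrArg Subtype.val hzz)
  obtain ⟨v, hv⟩ := (hginj.bijective_of_finite).2 ⟨_, hu⟩
  have : (v : Γ) = u := by simpa using congrArg Subtype.val hv
  exact this ▸ v.2

end Cfsg.Agent.Lib.LAEven57.AbelianCent
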