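import Mathlib
import Cfsg.Agent.Lib.LAEven57.AbelianCent.Mixed
import Cfsg.Agent.Lib.LAEven57.AbelianCent.Lines

/-!
# The invariant Sylow subgroups permute pairwise: there is no minimal configuration
-/

set_option autoImplicit false
set_option linter.style.haveILetI false
set_option linter.unusedSectionVars false

namespace Cfsg.Agent.Lib.LAEven57.AbelianCent

open Subgroup
open scoped Pointwise

variable {Γ : Type*} [Group Γ] [Finite Γ]

theorem eq_of_inf_normalizer_le {P U : Subgroup Γ} (hnil : Group.IsNilpotent P) (hUP : U ≤ P)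
    (hN : P ⊓ normalizer (U : Set Γ) ≤ U) : U = P := by
  haveI := hnil
  refine le_antisymm hUP ?_
  have := normalizerCondition_iff_only_full_group_self_normalizing.mp
    (Group.normalizerCondition_of_isNilpotent (G := P)) (U.subgroupOf P) (by
      refine le_antisymm ?_ le_normalizer
      intro x hx
      refine mem_subgroupOf.mpr (hN ⟨x.2, mem_normalizer_iff.mpr fun y => ⟨fun hy => ?_, fun hy => ?_⟩⟩)
      · exact (mem_normalizer_iff.mp hx ⟨y, hUP hy⟩).mp hy
      · have hyP : y ∈ P := by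
          simpa [mul_assoc] using mul_mem (mul_mem (inv_mem x.2) (hUP hy)) x.2
        exact (mem_normalizer_iff.mp hx ⟨y, hyP⟩).mpr hy)
  exact subgroupOf_eq_top.mp this

theorem pr_of_isPGroup {G A S : Subgroup Γ} {p r : ℕ} [Fact p.Prime] (hS : Inv G A S)
    (hSp : IsPGroup p S) : PR G A p r S := by
  refine ⟨hS, fun s hs hd => Or.inl ?_⟩
  obtain ⟨i, hi⟩ := IsPGroup.iff_card.mp hSp
  exact (Nat.prime_dvd_prime_iff_eq hs Fact.out).mp (hs.dvd_of_dvd_pow (hi ▸ hd))

/-- An invariant `p`-group normalised by an invariant `r`-group. -/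
theorem pr_sup {G A P R : Subgroup Γ} {p r : ℕ} [Fact p.Prime] [Fact r.Prime] (hP : Inv G A P)
    (hPp : IsPGroup p P) (hR : Inv G A R) (hRr : IsPGroup r R)
    (hn : R ≤ normalizer (P : Set Γ)) : PR G A p r (P ⊔ R) := by
  refine ⟨hP.sup hR, fun s hs hd => ?_⟩
  set N := normalizer (P : Set Γ)
  have hd' : Nat.card (P ⊔ R : Subgroup Γ) ∣ Nat.card P * Nat.card R := by
    have h1 := Cores.card_sup_dvd_mul (R.subgroupOf N) (P.subgroupOf N)
    rw [Nat.card_congr (subgroupOfEquivOfLe hn).toEquiv,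
      Nat.card_congr (subgroupOfEquivOfLe (le_normalizer : P ≤ N)).toEquiv,
      ← subgroupOf_sup hn le_normalizer,
      Nat.card_congr (subgroupOfEquivOfLe (sup_le hn le_normalizer)).toEquiv, sup_comm] at h1
    rwa [mul_comm]
  obtain ⟨i, hi⟩ := IsPGroup.iff_card.mp hPp
  obtain ⟨j, hj⟩ := IsPGroup.iff_card.mp hRr
  rw [hi, hj] at hd'
  rcases (Nat.Prime.dvd_mul hs).mp (hd.trans hd') with h1 | h1
  · exact Or.inl ((Nat.prime_dvd_prime_iff_eq hs Fact.out).mp (hs.dvd_of_dvd_pow h1))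
  · exact Or.inr ((Nat.prime_dvd_prime_iff_eq hs Fact.out).mp (hs.dvd_of_dvd_pow h1))

variable {q p r : ℕ} [Fact p.Prime] [Fact r.Prime] {G A : Subgroup Γ} (h : Min q G A)
  (hpr : p ≠ r) {P R : Subgroup Γ} (hP : IsSyl G A p P) (hR : IsSyl G A r R)
include h hpr hP hR

/-- A maximal subgroup with trivial `r`-core contains `P` as a normal subgroup. -/
theorem pure_le {Y : Subgroup Γ} (hY : Maximal (PR G A p r) Y) (hW : core r Y = ⊥) :
    P ≤ Y ∧ Y ≤ normalizer (P : Set Γ) := by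
  have hPY : P ⊓ Y = core p Y := by
    refine le_antisymm ?_ (le_inf (hP.ge _ (hY.1.1.core p) (isPGroup_core p Y)) (core_le p Y))
    intro x hx
    refine inf_centralizer_le_core h hpr hP hY.1 ⟨hx, ?_⟩
    show x ∈ centralizer ((core r Y : Subgroup Γ) : Set Γ)
    rw [hW, mem_centralizer_iff]
    intro y hy
    rw [SetLike.mem_coe, mem_bot] at hy
    simp [hy]
  by_cases hU : core p Y = ⊥
  · have hRY : R ⊓ Y = ⊥ := by
      refine le_bot_iff.mp (hW ▸ fun x hx => inf_centralizer_le_core h hpr.symm hR hY.1.symm ⟨hx, ?_⟩)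
      show x ∈ centralizer ((core p Y : Subgroup Γ) : Set Γ)
      rw [hU, mem_centralizer_iff]
      intro y hy
      rw [SetLike.mem_coe, mem_bot] at hy
      simp [hy]
    have hY0 : Y = ⊥ :=
      le_bot_iff.mp (h.le_of_parts hP hR hY.1 (by rw [hPY, hU]) (by rw [hRY]))
    have := hY.2 (pr_of_isPGroup (r := r) hP.inv hP.isP) (hY0 ▸ bot_le)
    refine ⟨this, ?_⟩
    rw [hY0]
    exact bot_le
  · obtain ⟨hp, -⟩ := parts_le_normalizer h hP hR hY (hY.1.1.core p) hU (isPGroup_core p Y)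
      (le_normalizer_core p Y)
    have he : core p Y = P := eq_of_inf_normalizer_le hP.isP.isNilpotent
      (hPY ▸ inf_le_left) fun x hx => hPY ▸ ⟨hx.1, hp ⟨hx.1, hP.inv.1 hx.1, hx.2⟩⟩
    exact ⟨he ▸ core_le p Y, (le_normalizer_core p Y).trans (by rw [he])⟩

variable (hno : ∀ Y : Subgroup Γ, PR G A p r Y → P ≤ Y → R ≤ Y → False)
include hno

/-- The two kinds of maximal subgroups. -/
theorem maximal_cases {Y : Subgroup Γ} (hY : Maximal (PR G A p r) Y) :
    (core r Y = ⊥ ∧ P ≤ Y ∧ Y ≤ normalizer (P : Set Γ)) ∨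
      (core p Y = ⊥ ∧ R ≤ Y ∧ Y ≤ normalizer (R : Set Γ)) := by
  by_cases hW : core r Y = ⊥
  · exact Or.inl ⟨hW, pure_le h hpr hP hR hY hW⟩
  · by_cases hU : core p Y = ⊥
    · exact Or.inr ⟨hU, pure_le h hpr.symm hR hP (maximal_symm hY) hU⟩
    · exact absurd (syl_le_of_mixed h hpr.symm hR hP (maximal_symm hY) hW hU)
        fun hRY => hno Y hY.1 (syl_le_of_mixed h hpr hP hR hY hU hW) hRY

/-- In a solvable invariant subgroup one part normalises the other Sylow subgroup. -/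
theorem parts_cases {X : Subgroup Γ} (hX : Inv G A X) (hsol : Group.IsSolvable X) :
    R ⊓ X ≤ normalizer (P : Set Γ) ∨ P ⊓ X ≤ normalizer (R : Set Γ) := by
  obtain ⟨H, hH, -, hPH, hRH⟩ := h.exists_parts hP hR hX hsol
  obtain ⟨Y, hHY, hY⟩ := h.exists_maximal hH
  rcases maximal_cases h hpr hP hR hno hY with ⟨-, -, hN⟩ | ⟨-, -, hN⟩
  · exact Or.inl (hRH.trans (hHY.trans hN))
  · exact Or.inr (hPH.trans (hHY.trans hN))

theorem ne_bot : P ≠ ⊥ := fun e =>
  hno R (pr_of_isPGroup (r := p) hR.inv hR.isP).symm (e ▸ bot_le) le_rfl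

theorem not_le_normalizer : ¬ R ≤ normalizer (P : Set Γ) := fun hn =>
  hno _ (pr_sup hP.inv hP.isP hR.inv hR.isP hn) le_sup_left le_sup_right

theorem not_le_normalizer' : ¬ P ≤ normalizer (R : Set Γ) := fun hn =>
  hno _ (pr_sup hR.inv hR.isP hP.inv hP.isP hn).symm le_sup_right le_sup_left

/-- No non-trivial part of `R` normalises `P`. -/
theorem inf_normalizer_eq_bot : R ⊓ normalizer (P : Set Γ) = ⊥ := by
  by_contra hR1
  set R₁ := R ⊓ normalizer (P : Set Γ) with hR₁
  have hR₁inv : Inv G A R₁ := hR.inv.inf (le_normalizer_normalizer hP.inv.2)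
  have hPne : P ≠ ⊥ := ne_bot h hpr hP hR hno
  have hPsol : Group.IsSolvable P := Coprime.isSolvable_of_isPGroup hP.isP
  have hfaith : R₁ ⊓ centralizer (P : Set Γ) = ⊥ := by
    obtain ⟨H, hH, -, hPH, hRH⟩ := h.exists_parts hP hR (h.inv_normalizer hP.inv)
      (h.solvable_normalizer hP.inv hPne hPsol)
    obtain ⟨Y, hHY, hY⟩ := h.exists_maximal hH
    have hPle : P ≤ Y := le_trans (le_inf le_rfl (le_inf hP.inv.1 le_normalizer)) (hPH.trans hHY)
    rcases maximal_cases h hpr hP hR hno hY with ⟨hW, -, -⟩ | ⟨-, -, hN⟩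
    · refine le_bot_iff.mp (hW ▸ fun x hx => inf_centralizer_le_core h hpr.symm hR hY.1.symm
        ⟨⟨hx.1.1, hHY (hRH ⟨hx.1.1, hR.inv.1 hx.1.1, hx.1.2⟩)⟩, ?_⟩)
      exact centralizer_le (SetLike.coe_subset_coe.mpr
        (hP.ge _ (hY.1.1.core p) (isPGroup_core p Y))) hx.2
    · exact absurd (hPle.trans hN) (not_le_normalizer' h hpr hP hR hno)
  -- the elements of the fixed lines
  have step : ∀ b ∈ A, b ≠ 1 → R₁ ⊓ centralizer {b} ≠ ⊥ → ∀ d ∈ A, d ∉ zpowers b →
      R ⊓ centralizer {d} ≤ normalizer (P : Set Γ) := by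
    intro b hb hb1 hRb d hd hdb
    have hd1 : d ≠ 1 := fun e => hdb (e ▸ one_mem _)
    have hPd : ¬ P ⊓ centralizer {d} ≤ normalizer (R : Set Γ) := by
      intro hle
      apply hRb
      refine le_bot_iff.mp (hfaith ▸ le_inf inf_le_left ?_)
      refine h.centralizes hP.inv (h.inv_fixed hR₁inv hb) (inf_le_left.trans inf_le_right)
        hP.isP.isNilpotent (IsPGroup.coprime_card_of_ne r p hpr.symm _ _
          (hR.isP.to_le (inf_le_left.trans inf_le_left)) hP.isP) hb hb1 hd hdb inf_le_right ?_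
      intro x hx v hv
      have h3 : x * v * x⁻¹ * v⁻¹ ∈ P ⊓ R := by
        refine ⟨mul_mem ((mem_normalizer_iff.mp hx.1.2 v).mp hv.1) (P.inv_mem hv.1), ?_⟩
        have := mul_mem hx.1.1 ((mem_normalizer_iff.mp (hle hv) x⁻¹).mp (inv_mem hx.1.1))
        simpa [mul_assoc] using this
      rw [inf_eq_bot_of_ne Fact.out Fact.out hpr hP.isP hR.isP, mem_bot, mul_inv_eq_one,
        mul_inv_eq_iff_eq_mul] at h3
      exact h3
    have hS : Inv G A (P ⊓ centralizer {d}) := h.inv_fixed hP.inv hd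
    have hS1 : P ⊓ centralizer {d} ≠ ⊥ := fun e => hPd (e ▸ bot_le)
    have hcomm : ∀ x ∈ G, x ∈ centralizer {d} →
        x ∈ centralizer ((P ⊓ centralizer {d} : Subgroup Γ) : Set Γ) := fun x hx hxd =>
      mem_centralizer_iff.mpr fun y hy => h.comm d hd hd1 y ⟨hP.inv.1 hy.1, hy.2⟩ x ⟨hx, hxd⟩
    rcases parts_cases h hpr hP hR hno (h.inv_centralizer hS) (h.solvable_centralizer hS hS1
      (Coprime.isSolvable_of_isPGroup (hP.isP.to_le inf_le_left))) with h1 | h1
    · exact fun x hx => h1 ⟨hx.1, hR.inv.1 hx.1, hcomm x (hR.inv.1 hx.1) hx.2⟩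
    · exact absurd (fun x hx => h1 ⟨hx.1, hP.inv.1 hx.1, hcomm x (hP.inv.1 hx.1) hx.2⟩) hPd
  obtain ⟨b, hb, hb1, hRb⟩ : ∃ b ∈ A, b ≠ 1 ∧ R₁ ⊓ centralizer {b} ≠ ⊥ := by
    by_contra hall
    push Not at hall
    exact hR1 (le_bot_iff.mp (h.le_of_fixed_le hR₁inv fun a ha ha1 => (hall a ha ha1).le))
  refine h.not_one_line hR (fun e => hR1 (le_bot_iff.mp (e ▸ inf_le_left))) hb hb1
    (h.le_of_fixed_le hR.inv fun a ha ha1 => ?_)
  by_cases hab : a ∈ zpowers b
  · rw [h.centralizer_eq hb ha1 hab]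
    exact inf_le_right
  · by_contra hne
    have hRa : R₁ ⊓ centralizer {a} ≠ ⊥ := fun e => hne (le_trans (le_of_le_of_eq
      (le_inf (le_inf inf_le_left (step b hb hb1 hRb a ha hab)) inf_le_right) e) bot_le)
    apply not_le_normalizer h hpr hP hR hno
    refine h.le_of_fixed_le hR.inv fun e he he1 => ?_
    by_cases heb : e ∈ zpowers b
    · exact step a ha ha1 hRa e he fun hea =>
        hab (zpowers_le.mpr heb (h.mem_zpowers_symm ha he1 hea))
    · exact step b hb hb1 hRb e he heb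

/-- No configuration for an odd prime `p`. -/
theorem false_of_odd (hp2 : p ≠ 2) : False := by
  have hR1 := inf_normalizer_eq_bot h hpr hP hR hno
  have hP2 := inf_normalizer_eq_bot h hpr.symm hR hP fun Y hY h1 h2 => hno Y hY.symm h2 h1
  obtain ⟨c, hc, hc1, hlines⟩ := h.exists_lines hP hp2 (ne_bot h hpr hP hR hno)
  refine h.not_one_line hR (ne_bot h hpr.symm hR hP fun Y hY h1 h2 => hno Y hY.symm h2 h1) hc hc1
    (h.le_of_fixed_le hR.inv fun d hd hd1 => ?_)
  by_cases hdc : d ∈ zpowers c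
  · rw [h.centralizer_eq hc hd1 hdc]
    exact inf_le_right
  · have hne := hlines d hd hdc
    have hS : Inv G A (P ⊓ centralizer {d}) := h.inv_fixed hP.inv hd
    have hcomm : ∀ x ∈ G, x ∈ centralizer {d} →
        x ∈ centralizer ((P ⊓ centralizer {d} : Subgroup Γ) : Set Γ) := fun x hx hxd =>
      mem_centralizer_iff.mpr fun y hy => h.comm d hd hd1 y ⟨hP.inv.1 hy.1, hy.2⟩ x ⟨hx, hxd⟩
    rcases parts_cases h hpr hP hR hno (h.inv_centralizer hS) (h.solvable_centralizer hS hne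
      (Coprime.isSolvable_of_isPGroup (hP.isP.to_le inf_le_left))) with h1 | h1
    · refine le_trans (fun x hx => ?_) bot_le
      rw [← hR1]
      exact ⟨hx.1, h1 ⟨hx.1, hR.inv.1 hx.1, hcomm x (hR.inv.1 hx.1) hx.2⟩⟩
    · exfalso
      apply hne
      rw [eq_bot_iff, ← hP2]
      exact fun x hx => ⟨hx.1, h1 ⟨hx.1, hP.inv.1 hx.1, hcomm x (hP.inv.1 hx.1) hx.2⟩⟩

omit hno in
/-- The two Sylow subgroups lie in an invariant `{p, r}`-subgroup. -/
theorem exists_common : ∃ Y : Subgroup Γ, PR G A p r Y ∧ P ≤ Y ∧ R ≤ Y := by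
  by_contra hall
  push Not at hall
  have hno : ∀ Y : Subgroup Γ, PR G A p r Y → P ≤ Y → R ≤ Y → False := hall
  by_cases hp2 : p = 2
  · exact false_of_odd h hpr.symm hR hP (fun Y hY h1 h2 => hno Y hY.symm h2 h1)
      (fun hr2 => hpr (hp2.trans hr2.symm))
  · exact false_of_odd h hpr hP hR hno hp2

omit hno in
/-- The two Sylow subgroups permute. -/
theorem mul_eq_of_syl {Y : Subgroup Γ} (hY : PR G A p r Y) (hPY : P ≤ Y) (hRY : R ≤ Y) :
    (P : Set Γ) * (R : Set Γ) = Y := by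
  have hsub : (P : Set Γ) * (R : Set Γ) ⊆ Y := by
    rintro _ ⟨a, ha, b, hb, rfl⟩
    exact Y.mul_mem (hPY ha) (hRY hb)
  refine Set.eq_of_subset_of_ncard_le hsub ?_ (Set.toFinite _)
  have hdis := inf_eq_bot_of_ne Fact.out Fact.out hpr hP.isP hR.isP
  have hinj : Function.Injective fun x : P × R => (x.1 : Γ) * x.2 :=
    Subgroup.mul_injective_of_disjoint (disjoint_iff.mpr hdis)
  have hc : ((P : Set Γ) * (R : Set Γ)).ncard = Nat.card P * Nat.card R := by
    rw [← Nat.card_prod, ← Nat.card_range_of_injective hinj, ← Nat.card_coe_set_eq]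
    refine Nat.card_congr (Equiv.setCongr ?_)
    ext x
    simp [Set.mem_mul]
  rw [hc, ← Nat.card_coe_set_eq, SetLike.coe_sort_coe]
  refine (Nat.le_of_dvd (Nat.mul_pos Nat.card_pos Nat.card_pos) ?_)
  rw [← Nat.factorization_prime_le_iff_dvd Nat.card_pos.ne'
    (Nat.mul_pos Nat.card_pos Nat.card_pos).ne']
  intro s hs
  by_cases hd : s ∣ Nat.card Y
  · rcases hY.2 s hs hd with rfl | rfl
    · rw [← inf_eq_left.mpr hPY, h.card_inf hP hY.1, Nat.factorization_mul
        (pow_ne_zero _ hs.ne_zero) Nat.card_pos.ne', Finsupp.coe_add, Pi.add_apply,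
        hs.factorization_pow, Finsupp.single_eq_same]
      exact Nat.le_add_right _ _
    · rw [← inf_eq_left.mpr hRY, h.card_inf hR hY.1, Nat.factorization_mul
        Nat.card_pos.ne' (pow_ne_zero _ hs.ne_zero), Finsupp.coe_add, Pi.add_apply,
        hs.factorization_pow, Finsupp.single_eq_same]
      exact Nat.le_add_left _ _
  · rw [Nat.factorization_eq_zero_of_not_dvd hd]
    exact Nat.zero_le _

omit hno in
theorem mul_comm_syl : (P : Set Γ) * (R : Set Γ) = (R : Set Γ) * (P : Set Γ) := by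
  obtain ⟨Y, hY, hPY, hRY⟩ := exists_common h hpr hP hR
  rw [mul_eq_of_syl h hpr hP hR hY hPY hRY, mul_eq_of_syl h hpr.symm hR hP hY.symm hRY hPY]

omit hpr hP hR hno in
/-- **There is no minimal configuration.** -/
theorem Min.not_exists : False := by
  have hsyl : ∀ s : Nat.Primes, ∃ S : Subgroup Γ, IsSyl G A (s : ℕ) S := fun s =>
    haveI := Fact.mk s.2
    h.exists_syl s
  choose S hS using hsyl
  haveI : ∀ s : Nat.Primes, Fact (s : ℕ).Prime := fun s => ⟨s.2⟩
  let T : (s : Nat.Primes) → Sylow (s : ℕ) G := fun s =>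
    ((hS s).isP.of_equiv (subgroupOfEquivOfLe (hS s).inv.1).symm).toSylow (hS s).index
  apply h.nsol
  refine Hall.Converse.isSolvable_of_sylowSystem T fun s t => ?_
  by_cases hst : s = t
  · subst hst; rfl
  have hne : (s : ℕ) ≠ (t : ℕ) := fun e => hst (Subtype.ext e)
  have hT : ∀ u, G.subtype '' (T u : Set G) = (S u : Set Γ) := fun u =>
    congrArg SetLike.coe (map_subgroupOf_eq_of_le (hS u).inv.1)
  apply G.subtype_injective.image_injective
  rw [Set.image_mul, Set.image_mul, hT, hT]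
  exact mul_comm_syl h hne (hS s) (hS t)

end Cfsg.Agent.Lib.LAEven57.AbelianCent
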