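import Mathlib
import Cfsg.Agent.Lib.LAEven57.AbelianCent.Final

/-!
# Reduction to a minimal configuration
-/

set_option autoImplicit false
set_option linter.style.haveILetI false
set_option linter.unusedSectionVars false

namespace Cfsg.Agent.Lib.LAEven57.AbelianCent

open Subgroup

universe u

variable {Γ : Type u} [Group Γ] [Finite Γ] {q : ℕ} {G A : Subgroup Γ}

theorem Setup.sub (h : Setup q G A) {X : Subgroup Γ} (hX : Inv G A X) :
    Setup q (X.subgroupOf (X ⊔ A)) (A.subgroupOf (X ⊔ A)) where
  hq := h.hq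
  hA := (Nat.card_congr (subgroupOfEquivOfLe le_sup_right).toEquiv).trans h.hA
  hAc a ha b hb := Subtype.ext (h.hAc _ ha _ hb)
  hAq a ha := Subtype.ext (by simpa using h.hAq _ ha)
  hAG a ha := mem_normalizer_iff.mpr fun x => (mem_normalizer_iff.mp (hX.2 ha) (x : Γ))
  hqG := by
    rw [Nat.card_congr (subgroupOfEquivOfLe le_sup_left).toEquiv]
    exact h.card_coprime hX.1
  top := by rw [← subgroupOf_sup le_sup_left le_sup_right, subgroupOf_self]
  comm a ha ha1 x hx y hy := Subtype.ext (h.comm _ ha (fun e => ha1 (Subtype.ext e)) x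
    ⟨hX.1 hx.1, mem_centralizer_singleton_iff.mpr
      (congrArg Subtype.val (mem_centralizer_singleton_iff.mp hx.2))⟩ y
    ⟨hX.1 hy.1, mem_centralizer_singleton_iff.mpr
      (congrArg Subtype.val (mem_centralizer_singleton_iff.mp hy.2))⟩)

theorem Setup.quot (h : Setup q G A) {N : Subgroup Γ} [N.Normal] (hN : N ≤ G) :
    Setup q (G.map (QuotientGroup.mk' N)) (A.map (QuotientGroup.mk' N)) where
  hq := h.hq
  hA := by
    refine Eq.trans (Nat.card_congr (Equiv.ofBijective
      (fun a : A => (⟨QuotientGroup.mk' N a, mem_map_of_mem _ a.2⟩ : A.map (QuotientGroup.mk' N)))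
      ⟨fun a b hab => ?_, ?_⟩)).symm h.hA
    · have h1 : (a : Γ)⁻¹ * b ∈ A ⊓ N :=
        ⟨A.mul_mem (A.inv_mem a.2) b.2, QuotientGroup.eq.mp (congrArg Subtype.val hab)⟩
      rw [Coprime.inf_eq_bot_of_coprime (h.card_A_coprime hN), mem_bot, inv_mul_eq_one] at h1
      exact Subtype.ext h1
    · rintro ⟨_, a, ha, rfl⟩
      exact ⟨⟨a, ha⟩, rfl⟩
  hAc := by
    rintro _ ⟨a, ha, rfl⟩ _ ⟨b, hb, rfl⟩
    rw [← map_mul, ← map_mul, h.hAc a ha b hb]
  hAq := by
    rintro _ ⟨a, ha, rfl⟩
    rw [← map_pow, h.hAq a ha, map_one]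
  hAG := (Subgroup.map_mono h.hAG).trans (le_normalizer_map _)
  hqG := h.hqG.coprime_dvd_right (card_map_dvd _ _)
  top := by
    rw [← Subgroup.map_sup, h.top, map_top_of_surjective _ (QuotientGroup.mk'_surjective N)]
  comm := by
    rintro _ ⟨a, ha, rfl⟩ ha1 x hx y hy
    have lift : ∀ z ∈ G.map (QuotientGroup.mk' N) ⊓ centralizer {QuotientGroup.mk' N a},
        ∃ g ∈ G ⊓ centralizer {a}, QuotientGroup.mk' N g = z := by
      rintro _ ⟨⟨g, hg, rfl⟩, hz⟩
      have hAN : zpowers a ≤ normalizer (N : Set Γ) :=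
        le_top.trans (normalizer_eq_top_iff.mpr inferInstance).ge
      obtain ⟨n, hn, hfix⟩ := Coprime.exists_fixed_mul (A := zpowers a) (N := N) hAN
        ((h.card_A_coprime hN).coprime_dvd_left (card_dvd_of_le (zpowers_le.mpr ha)))
        (Or.inl (Coprime.isSolvable_zpowers _)) (k := g) (fun b hb => by
          obtain ⟨j, rfl⟩ := hb
          rw [← QuotientGroup.eq_one_iff]
          show QuotientGroup.mk' N (a ^ j * g * (a ^ j)⁻¹ * g⁻¹) = 1
          have hc : Commute (QuotientGroup.mk' N g) (QuotientGroup.mk' N a) :=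
            mem_centralizer_singleton_iff.mp hz
          simp only [map_mul, map_inv, map_zpow]
          rw [← (hc.zpow_right j).eq, mul_inv_cancel_right, mul_inv_cancel])
      refine ⟨n * g, ⟨G.mul_mem (hN hn) hg,
        centralizer_le (Set.singleton_subset_iff.mpr (mem_zpowers a)) hfix⟩, ?_⟩
      rw [map_mul, QuotientGroup.mk'_apply, (QuotientGroup.eq_one_iff n).mpr hn, one_mul]
    obtain ⟨g, hg, rfl⟩ := lift x hx
    obtain ⟨k, hk, rfl⟩ := lift y hy
    rw [← map_mul, ← map_mul, h.comm a ha (fun e => ha1 (by rw [e, map_one])) g hg k hk]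

theorem Setup.solvable_aux (n : ℕ) : ∀ {Γ : Type u} [Group Γ] [Finite Γ] {q : ℕ}
    {G A : Subgroup Γ}, Setup q G A → Nat.card G ≤ n → Group.IsSolvable G := by
  induction n with
  | zero => intro Γ _ _ q G A _ hn; exact absurd hn (not_le.mpr Nat.card_pos)
  | succ n ih =>
    intro Γ _ _ q G A h hn
    by_contra hns
    have hproper : ∀ X : Subgroup Γ, X ≤ G → A ≤ normalizer (X : Set Γ) → X ≠ G →
        Group.IsSolvable X := by
      intro X hXG hXA hne
      have hlt : Nat.card X < Nat.card G :=
        lt_of_le_of_ne (card_le_of_le hXG) fun e => hne (eq_of_le_of_card_ge hXG e.ge)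
      have e := subgroupOfEquivOfLe (le_sup_left : X ≤ X ⊔ A)
      haveI := ih (h.sub ⟨hXG, hXA⟩) (by rw [Nat.card_congr e.toEquiv]; omega)
      exact Group.isSolvable_of_surjective (f := e.toMonoidHom) e.surjective
    have hsimple : ∀ N : Subgroup Γ, N ≤ G → N.Normal → N = ⊥ ∨ N = G := by
      intro N hNG hN
      by_contra hcon
      push Not at hcon
      haveI := hN
      haveI hNsol : Group.IsSolvable N :=
        hproper N hNG (le_top.trans (normalizer_eq_top_iff.mpr hN).ge) hcon.2
      set f := (QuotientGroup.mk' N).subgroupMap G with hf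
      have hlt : Nat.card (G.map (QuotientGroup.mk' N)) < Nat.card G := by
        refine lt_of_le_of_ne (Nat.card_le_card_of_surjective _ (MonoidHom.subgroupMap_surjective _ G))
          fun e => ?_
        apply hcon.1
        have hbij : Function.Bijective f :=
          (Nat.bijective_iff_surjective_and_card f).mpr ⟨MonoidHom.subgroupMap_surjective _ G, e.symm⟩
        rw [eq_bot_iff]
        intro x hx
        have h1 : f ⟨x, hNG hx⟩ = f 1 := Subtype.ext (by
          show QuotientGroup.mk' N x = QuotientGroup.mk' N 1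
          rw [map_one]
          exact (QuotientGroup.eq_one_iff x).mpr hx)
        exact congrArg Subtype.val (hbij.1 h1)
      haveI : Group.IsSolvable (G.map (QuotientGroup.mk' N)) := ih (h.quot hNG) (by omega)
      refine hns (Group.isSolvable_of_ker_le_range (f := inclusion hNG) (g := f) ?_)
      intro x hx
      exact ⟨⟨x, (QuotientGroup.eq_one_iff (x : Γ)).mp (congrArg Subtype.val hx)⟩, rfl⟩
    have hfpf : G ⊓ centralizer (A : Set Γ) = ⊥ := by
      set Z := G ⊓ centralizer (A : Set Γ) with hZ
      have hGC : G ≤ centralizer (Z : Set Γ) := by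
        refine h.le_of_fixed_le h.inv_self fun a ha ha1 x hx => mem_centralizer_iff.mpr fun z hz => ?_
        exact h.comm a ha ha1 z
          ⟨hz.1, centralizer_le (Set.singleton_subset_iff.mpr ha) hz.2⟩ x hx
      have hZn : Z.Normal := by
        rw [← normalizer_eq_top_iff, eq_top_iff, ← h.top]
        refine sup_le (hGC.trans (Subgroup.centralizer_le_normalizer _))
          (le_trans (fun a ha => ?_) (Subgroup.centralizer_le_normalizer _))
        exact mem_centralizer_iff.mpr fun z hz => (mem_centralizer_iff.mp hz.2 a ha).symm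
      rcases hsimple Z inf_le_left hZn with h1 | h1
      · exact h1
      · refine absurd ?_ hns
        haveI : IsMulCommutative G := ⟨⟨fun x y => Subtype.ext
          (mem_centralizer_iff.mp (hGC y.2) (x : Γ) (by
            show (x : Γ) ∈ Z
            rw [h1]
            exact x.2))⟩⟩
        exact Coprime.isSolvable_of_isMulCommutative G
    exact Min.not_exists { toSetup := h, fpf := hfpf, proper := hproper, simple := hsimple, nsol := hns }

/-- A group on which `C_q × C_q` acts coprimely with abelian centralisers is solvable. -/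
theorem Setup.solvable (h : Setup q G A) : Group.IsSolvable G :=
  Setup.solvable_aux _ h le_rfl

end Cfsg.Agent.Lib.LAEven57.AbelianCent
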